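import Mathlib
import Cfsg.Prelude.Def_Sporadic_a
import Cfsg.Prelude.Def_SporadicCombinatorics
import Cfsg.Agent.Helper9.Leech.Order
import Cfsg.Agent.Helper9.Leech.Count64

/-!
Crosses of the lattice as sets of lattice vectors, and the action of the automorphism group on
them.
-/

set_option autoImplicit false

namespace Cfsg.Agent.Helper9.CrossMax

open Cfsg
open Cfsg.Agent.Helper9.Golay
open Cfsg.Agent.Helper9.Leech
open scoped Pointwise

/-- the cross of a lattice vector, as a set of lattice vectors. -/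
def Cr (w : ↥leechLattice) : Set ↥leechLattice :=
  {v | (v : GolayPt → ℤ) ∈ cross (w : GolayPt → ℤ)}

theorem mem_Cr_self (w : ↥leechLattice) : w ∈ Cr w := by
  refine ⟨w.2, rfl, 0, leechLattice.zero_mem, ?_⟩
  rw [sub_self, smul_zero]

theorem sqNorm_of_mem_Cr {v w : ↥leechLattice} (h : v ∈ Cr w) :
    sqNorm (v : GolayPt → ℤ) = sqNorm (w : GolayPt → ℤ) := h.2.1

theorem Cr_subset_of_mem {v w : ↥leechLattice} (h : v ∈ Cr w) : Cr v ⊆ Cr w := by
  intro u hu
  obtain ⟨-, hn, z, hz, hzv⟩ := h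
  obtain ⟨-, hn', z', hz', hzu⟩ := hu
  refine ⟨u.2, hn'.trans hn, z + z', leechLattice.add_mem hz hz', ?_⟩
  rw [smul_add, ← hzv, ← hzu]
  abel

theorem mem_Cr_symm {v w : ↥leechLattice} (h : v ∈ Cr w) : w ∈ Cr v := by
  obtain ⟨-, hn, z, hz, hzv⟩ := h
  refine ⟨w.2, hn.symm, -z, leechLattice.neg_mem hz, ?_⟩
  rw [smul_neg, ← hzv]
  abel

theorem Cr_eq_of_mem {v w : ↥leechLattice} (h : v ∈ Cr w) : Cr v = Cr w :=
  Set.Subset.antisymm (Cr_subset_of_mem h) (Cr_subset_of_mem (mem_Cr_symm h))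

theorem smul_mem_Cr (g : ↥Co0) {v w : ↥leechLattice} (h : v ∈ Cr w) : g • v ∈ Cr (g • w) := by
  obtain ⟨-, hn, z, hz, hzv⟩ := h
  refine ⟨(g • v).2, ?_, ((g • (⟨z, hz⟩ : ↥leechLattice) : ↥leechLattice) : GolayPt → ℤ),
    (g • (⟨z, hz⟩ : ↥leechLattice)).2, ?_⟩
  · exact (g.2.2 v).trans (hn.trans (g.2.2 w).symm)
  · have h1 : w - v = (⟨z, hz⟩ : ↥leechLattice) + ⟨z, hz⟩ := by
      apply Subtype.ext
      change (w : GolayPt → ℤ) - (v : GolayPt → ℤ) = z + z
      rw [hzv, two_smul]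
    have h2 : g • (w - v) = g • ((⟨z, hz⟩ : ↥leechLattice) + ⟨z, hz⟩) := by rw [h1]
    rw [smul_sub', smul_add'] at h2
    have h3 := congrArg (fun u : ↥leechLattice => (u : GolayPt → ℤ)) h2
    change ((g • w : ↥leechLattice) : GolayPt → ℤ) - ((g • v : ↥leechLattice) : GolayPt → ℤ) =
      ((g • (⟨z, hz⟩ : ↥leechLattice) : ↥leechLattice) : GolayPt → ℤ) +
      ((g • (⟨z, hz⟩ : ↥leechLattice) : ↥leechLattice) : GolayPt → ℤ) at h3
    rw [h3, two_smul]

theorem smul_Cr (g : ↥Co0) (w : ↥leechLattice) : g • Cr w = Cr (g • w) := by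
  ext u
  constructor
  · rintro ⟨v, hv, rfl⟩
    exact smul_mem_Cr g hv
  · intro hu
    have h := smul_mem_Cr g⁻¹ hu
    rw [inv_smul_smul] at h
    exact ⟨g⁻¹ • u, h, smul_inv_smul g u⟩

theorem image_val_Cr (w : ↥leechLattice) :
    Subtype.val '' Cr w = cross (w : GolayPt → ℤ) := by
  ext y
  constructor
  · rintro ⟨v, hv, rfl⟩
    exact hv
  · intro hy
    exact ⟨⟨y, hy.1⟩, hy, rfl⟩

theorem ncard_Cr (w : ↥leechLattice) (hw : sqNorm (w : GolayPt → ℤ) = 64) :
    (Cr w).ncard = 48 := by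
  rw [← Set.ncard_image_of_injective (Cr w) Subtype.val_injective, image_val_Cr]
  exact card_cross _ w.2 hw

theorem Cr_finite (w : ↥leechLattice) (hw : sqNorm (w : GolayPt → ℤ) = 64) : (Cr w).Finite :=
  Set.finite_of_ncard_ne_zero (by rw [ncard_Cr w hw]; norm_num)

theorem crossSet_eq : crossSet = Cr (e8 none) := by
  ext v
  change (v : GolayPt → ℤ) ∈ stdCross ↔ (v : GolayPt → ℤ) ∈ cross (Pi.single none (8 : ℤ))
  rw [stdCross_eq]

/-- the crosses form one orbit. -/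
theorem orbit_crossSet : MulAction.orbit ↥Co0 crossSet =
    {C | ∃ w : ↥leechLattice, sqNorm (w : GolayPt → ℤ) = 64 ∧ C = Cr w} := by
  ext C
  constructor
  · rintro ⟨g, rfl⟩
    refine ⟨g • e8 none, ?_, ?_⟩
    · rw [← sqNorm_e8 none]
      exact g.2.2 (e8 none)
    · change g • crossSet = _
      rw [crossSet_eq, smul_Cr]
  · rintro ⟨w, hw, rfl⟩
    obtain ⟨g, hg⟩ := trans64 (e8 none) w (sqNorm_e8 none) hw
    refine ⟨g, ?_⟩
    change g • crossSet = _
    rw [crossSet_eq, smul_Cr, hg]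

/-- the number of crosses. -/
theorem ncard_orbit_crossSet : (MulAction.orbit ↥Co0 crossSet).ncard = 8292375 := by
  have h1 := Subgroup.index_mul_card (MulAction.stabilizer ↥Co0 crossSet)
  rw [MulAction.index_stabilizer, card_co0] at h1
  have h2 : Nat.card ↥(MulAction.stabilizer ↥Co0 crossSet) = 4096 * 244823040 := card_NN
  rw [h2] at h1
  have e : (8315553613086720000 : ℕ) = 8292375 * (4096 * 244823040) := by norm_num
  rw [e] at h1
  exact Nat.eq_of_mul_eq_mul_right (by norm_num) h1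

end Cfsg.Agent.Helper9.CrossMax
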