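import Mathlib
import Cfsg.Prelude.Def_Sporadic_a
import Cfsg.Prelude.Def_SporadicCombinatorics
import Cfsg.Agent.Helper9.Leech.Count64
import Cfsg.Agent.Helper9.Leech.Engine

/-!
A decidable test for membership in the lattice, and crosses given by lists.
-/

set_option autoImplicit false

namespace Cfsg.Agent.Helper9.CrossMax

open Cfsg
open Cfsg.Agent.Helper9.Golay
open Cfsg.Agent.Helper9.Leech

/-- a decidable test for membership in the lattice. -/
def LeechP (x : GolayPt → ℤ) : Prop :=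
  (∀ i, x i % 2 = x none % 2) ∧ (∑ i, x i) % 8 = (4 * (x none % 2)) % 8 ∧
    ∀ k ∈ ([0, 1, 2, 3] : List ℤ), encW (resW x k) ∈ codeList

instance (x : GolayPt → ℤ) : Decidable (LeechP x) := by
  unfold LeechP
  infer_instance

theorem resW_mod (x : GolayPt → ℤ) (k : ℤ) : resW x k = resW x (k % 4) := by
  funext i
  unfold resW
  have h : (x i ≡ k [ZMOD 4]) ↔ (x i ≡ k % 4 [ZMOD 4]) := by
    unfold Int.ModEq
    rw [Int.emod_emod_of_dvd k (dvd_refl 4)]
  simp only [h]

theorem leechP_sound {x : GolayPt → ℤ} (h : LeechP x) : x ∈ leechLattice := by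
  rw [mem_leechLattice_iff, mem_leechSet_iff]
  refine ⟨x none % 2, ?_, h.2.1, ?_⟩
  · intro i
    unfold Int.ModEq
    rw [h.1 i, Int.emod_emod_of_dvd (x none) (dvd_refl 2)]
  · intro k
    rw [resW_mod]
    have h0 := Int.emod_nonneg k (by norm_num : (4 : ℤ) ≠ 0)
    have h4 := Int.emod_lt_of_pos k (by norm_num : (0 : ℤ) < 4)
    have hk : k % 4 ∈ ([0, 1, 2, 3] : List ℤ) := by
      generalize k % 4 = r at h0 h4
      interval_cases r <;> simp
    exact (mem_golayCode_iff _).mpr (h.2.2 _ hk)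

/-- a decidable test for membership in a cross. -/
def InCross (w y z : GolayPt → ℤ) : Prop :=
  LeechP y ∧ LeechP z ∧ sqNorm y = 64 ∧ ∀ p, w p - y p = 2 * z p

instance (w y z : GolayPt → ℤ) : Decidable (InCross w y z) := by
  unfold InCross
  infer_instance

theorem inCross_sound {w y z : GolayPt → ℤ} (hw : sqNorm w = 64) (h : InCross w y z) :
    y ∈ cross w := by
  refine ⟨leechP_sound h.1, by rw [hw]; exact h.2.2.1, z, leechP_sound h.2.1, ?_⟩
  rw [← dblHom_eq_smul]
  funext p
  rw [Pi.sub_apply, dblHom_apply]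
  exact h.2.2.2 p

/-- a cross given by a list. -/
theorem cross_eq_of_list (w : GolayPt → ℤ) (hw : w ∈ leechLattice) (hn : sqNorm w = 64)
    (L : List (GolayPt → ℤ)) (hL : ∀ y ∈ L, y ∈ cross w) (hnd : L.Nodup) (hlen : L.length = 48) :
    cross w = {y | y ∈ L} := by
  classical
  have hfin : (cross w).Finite :=
    Set.finite_of_ncard_ne_zero (by rw [card_cross w hw hn]; norm_num)
  have h1 : {y | y ∈ L} = (L.toFinset : Set (GolayPt → ℤ)) := by
    ext y
    simp
  have h2 : ({y | y ∈ L} : Set (GolayPt → ℤ)) ⊆ cross w := fun y hy => hL y hy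
  have h3 : (cross w).ncard ≤ ({y | y ∈ L} : Set (GolayPt → ℤ)).ncard := by
    rw [card_cross w hw hn, h1, Set.ncard_coe_finset, List.toFinset_card_of_nodup hnd, hlen]
  exact (Set.eq_of_subset_of_ncard_le h2 h3 hfin).symm

theorem ncard_cross_filter (w : GolayPt → ℤ) (hw : w ∈ leechLattice) (hn : sqNorm w = 64)
    (L : List (GolayPt → ℤ)) (hL : ∀ y ∈ L, y ∈ cross w) (hnd : L.Nodup) (hlen : L.length = 48)
    (q : ℤ) :
    {y | y ∈ cross w ∧ pw 4 y = q}.ncard = (L.filter (fun y => pw 4 y = q)).length := by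
  classical
  rw [cross_eq_of_list w hw hn L hL hnd hlen]
  have h1 : {y | y ∈ {y | y ∈ L} ∧ pw 4 y = q} =
      ((L.filter (fun y => pw 4 y = q)).toFinset : Set (GolayPt → ℤ)) := by
    ext y
    simp
  rw [h1, Set.ncard_coe_finset, List.toFinset_card_of_nodup (hnd.filter _)]

end Cfsg.Agent.Helper9.CrossMax
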