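import Mathlib
import Cfsg.Prelude.Def_Sporadic_a
import Cfsg.Prelude.Def_SporadicCombinatorics
import Cfsg.Agent.Helper9.Leech.Class64

/-!
The vectors of sum of squares 64, sorted by the sum of the fourth powers of the entries: their
numbers and their shapes.
-/

set_option autoImplicit false

namespace Cfsg.Agent.Helper9.CrossMax

open Cfsg
open Cfsg.Agent.Helper9.Golay
open Cfsg.Agent.Helper9.Leech

/-- the shapes of the vectors of sum of squares 64, by the sum of the fourth powers. -/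
inductive ShQ : ℤ → (GolayPt → ℤ) → Prop
  | one (Q t : Finset GolayPt) (hQ : Q.card = 1) (ht : t ⊆ Q) : ShQ 4096 (dblHom (pat 4 Q t))
  | four (Q t : Finset GolayPt) (hQ : Q.card = 4) (ht : t ⊆ Q) : ShQ 1024 (dblHom (pat 2 Q t))
  | six (P s : Finset GolayPt) (p : GolayPt) (hP : P ∈ octads) (hs : s ⊆ P) (ho : Odd s.card)
      (hp : p ∈ P) : ShQ 1408 (dblHom (trip P s p))
  | e8 (P s Q t : Finset GolayPt) (hP : P ∈ octads) (hs : s ⊆ P) (he : Even s.card)
      (hQ : Q ⊆ Pᶜ) (hQc : Q.card = 2) (ht : t ⊆ Q) :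
      ShQ 640 (dblHom (pat 1 P s + pat 2 Q t))
  | e12 (P s Q t : Finset GolayPt) (hP : P ∈ dodecads) (hs : s ⊆ P) (ho : Odd s.card)
      (hQ : Q ⊆ Pᶜ) (hQc : Q.card = 1) (ht : t ⊆ Q) :
      ShQ 448 (dblHom (pat 1 P s + pat 2 Q t))
  | e16 (x : GolayPt → ℤ) : ShQ 256 x
  | odd7 (x : GolayPt → ℤ) : ShQ 424 x
  | odd8 (c T : Finset GolayPt) (j : GolayPt)
      (hc : c ∈ supports (golayCode : Set (GolayPt → ZMod 2)))
      (hT : T.card = 2) (hj : j ∉ T) : ShQ 808 (signCh c (base2 j T))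

/-- families with shapes. -/
def IsFamQ (N : ℕ) (q : ℤ) : Prop :=
  ∃ F : Finset (GolayPt → ℤ), F.card = N ∧
    ∀ x ∈ F, x ∈ leechLattice ∧ sqNorm x = 64 ∧ pw 4 x = q ∧ ShQ q x

theorem fams_exact (L : List (ℕ × ℤ)) (hL : ∀ p ∈ L, IsFamQ p.1 p.2)
    (hnd : (L.map Prod.snd).Nodup) :
    ∃ F : Finset (GolayPt → ℤ), F.card = (L.map Prod.fst).sum ∧
      (∀ x ∈ F, x ∈ leechLattice ∧ sqNorm x = 64 ∧ pw 4 x ∈ L.map Prod.snd) ∧
      ∀ p ∈ L, (F.filter (fun x => pw 4 x = p.2)).card = p.1 ∧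
        ∀ x ∈ F, pw 4 x = p.2 → ShQ p.2 x := by
  classical
  induction L with
  | nil =>
    exact ⟨∅, rfl, fun x hx => absurd hx (Finset.notMem_empty x),
      fun p hp => absurd hp List.not_mem_nil⟩
  | cons p L ih =>
    rw [List.map_cons, List.nodup_cons] at hnd
    obtain ⟨F0, hc0, hF0, hex0⟩ := ih (fun p' hp' => hL p' (List.mem_cons_of_mem _ hp')) hnd.2
    obtain ⟨F1, hc1, hF1⟩ := hL p List.mem_cons_self
    have hdisj : Disjoint F1 F0 := by
      rw [Finset.disjoint_left]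
      intro x h1 h0
      apply hnd.1
      rw [← (hF1 x h1).2.2.1]
      exact (hF0 x h0).2.2
    have hne : ∀ x ∈ F0, pw 4 x ≠ p.2 := by
      intro x hx h
      apply hnd.1
      rw [← h]
      exact (hF0 x hx).2.2
    refine ⟨F1 ∪ F0, ?_, ?_, ?_⟩
    · rw [Finset.card_union_of_disjoint hdisj, hc0, hc1, List.map_cons, List.sum_cons]
    · intro x hx
      rw [List.map_cons, List.mem_cons]
      rcases Finset.mem_union.mp hx with h | h
      · exact ⟨(hF1 x h).1, (hF1 x h).2.1, Or.inl (hF1 x h).2.2.1⟩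
      · exact ⟨(hF0 x h).1, (hF0 x h).2.1, Or.inr (hF0 x h).2.2⟩
    · intro p' hp'
      rcases List.mem_cons.mp hp' with rfl | hp'L
      · have hfil : (F1 ∪ F0).filter (fun x => pw 4 x = p'.2) = F1 := by
          ext x
          rw [Finset.mem_filter, Finset.mem_union]
          constructor
          · rintro ⟨h | h, hq⟩
            · exact h
            · exact absurd hq (hne x h)
          · intro h
            exact ⟨Or.inl h, (hF1 x h).2.2.1⟩
        refine ⟨by rw [hfil, hc1], ?_⟩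
        intro x hx hq
        rcases Finset.mem_union.mp hx with h | h
        · exact (hF1 x h).2.2.2
        · exact absurd hq (hne x h)
      · have hne' : p'.2 ≠ p.2 := by
          intro h
          apply hnd.1
          rw [← h]
          exact List.mem_map_of_mem hp'L
        have hfil : (F1 ∪ F0).filter (fun x => pw 4 x = p'.2) =
            F0.filter (fun x => pw 4 x = p'.2) := by
          ext x
          rw [Finset.mem_filter, Finset.mem_filter, Finset.mem_union]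
          constructor
          · rintro ⟨h | h, hq⟩
            · exact absurd ((hF1 x h).2.2.1.symm.trans hq).symm hne'
            · exact ⟨h, hq⟩
          · rintro ⟨h, hq⟩
            exact ⟨Or.inr h, hq⟩
        refine ⟨by rw [hfil]; exact (hex0 p' hp'L).1, ?_⟩
        intro x hx hq
        rcases Finset.mem_union.mp hx with h | h
        · exact absurd ((hF1 x h).2.2.1.symm.trans hq).symm hne'
        · exact (hex0 p' hp'L).2 x h hq

theorem famE_corQ (PP : Finset (Finset GolayPt)) (par : ℕ → Prop) [DecidablePred par]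
    (S n m : ℕ) (k : ℤ) (hk : 0 < k)
    (hPP : ∀ P ∈ PP, P ∈ supports (golayCode : Set (GolayPt → ZMod 2)) ∧ P.card = n)
    (hS : ∀ P ∈ PP, (P.powerset.filter (fun s => par s.card)).card = S)
    (hpar : ∀ c : ℕ, par c → ((n : ℤ) - 2 * c + 2 * k * m) % 4 = 0) (N : ℕ) (q : ℤ)
    (hN : PP.card * (S * ((24 - n).choose m * 2 ^ m)) = N)
    (h2 : 2 ^ 2 * ((n : ℤ) + m * (2 * k) ^ 2) = 64) (h4 : 2 ^ 4 * ((n : ℤ) + m * (2 * k) ^ 4) = q)
    (hsh : ∀ x ∈ famE PP par m (2 * k), ShQ q x) :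
    IsFamQ N q := by
  obtain ⟨h1, h3⟩ := famE_main PP par S n m k hk hPP hS hpar
  refine ⟨famE PP par m (2 * k), h1.trans hN, fun x hx => ⟨(h3 x hx).1, ?_, ?_, hsh x hx⟩⟩
  · rw [sqNorm_eq_pw, (h3 x hx).2 2 (by decide) (by decide), h2]
  · rw [(h3 x hx).2 4 (by decide) (by decide), h4]

theorem hshQ_four (PP : Finset (Finset GolayPt)) (h0 : ∀ P ∈ PP, P = ∅) :
    ∀ x ∈ famE PP (fun c => c = 0) 4 (2 * 1), ShQ 1024 x := by
  intro x hx
  obtain ⟨Q, t, hQ, ht, rfl⟩ := shape_of_zero PP h0 4 (2 * 1) x hx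
  rw [mul_one]
  exact ShQ.four Q t hQ ht

theorem hshQ_one (PP : Finset (Finset GolayPt)) (h0 : ∀ P ∈ PP, P = ∅) :
    ∀ x ∈ famE PP (fun c => c = 0) 1 (2 * 2), ShQ 4096 x := by
  intro x hx
  obtain ⟨Q, t, hQ, ht, rfl⟩ := shape_of_zero PP h0 1 (2 * 2) x hx
  have e4 : (2 : ℤ) * 2 = 4 := by norm_num
  rw [e4]
  exact ShQ.one Q t hQ ht

theorem famQ_E0 : IsFamQ 170016 1024 := by
  have e : (1 : ℕ) * (1 * ((24 - 0).choose 4 * 2 ^ 4)) = 170016 := by norm_num [Nat.choose]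
  refine famE_corQ {∅} (fun c => c = 0) 1 0 4 1 (by norm_num) ?_ ?_ ?_ 170016 1024 ?_
    (by norm_num) (by norm_num) (hshQ_four {∅} (fun P hP => Finset.mem_singleton.mp hP))
  · intro P hP
    rw [Finset.mem_singleton.mp hP]
    exact ⟨Spor.empty_mem_supports_golayCode, rfl⟩
  · intro P hP
    rw [Finset.mem_singleton.mp hP]
    exact card_filter_empty
  · intro c hc
    rw [hc]
    norm_num
  · rw [Finset.card_singleton]
    exact e

theorem famQ_F1 : IsFamQ 48 4096 := by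
  have e : (1 : ℕ) * (1 * ((24 - 0).choose 1 * 2 ^ 1)) = 48 := by norm_num [Nat.choose]
  refine famE_corQ {∅} (fun c => c = 0) 1 0 1 2 (by norm_num) ?_ ?_ ?_ 48 4096 ?_
    (by norm_num) (by norm_num) (hshQ_one {∅} (fun P hP => Finset.mem_singleton.mp hP))
  · intro P hP
    rw [Finset.mem_singleton.mp hP]
    exact ⟨Spor.empty_mem_supports_golayCode, rfl⟩
  · intro P hP
    rw [Finset.mem_singleton.mp hP]
    exact card_filter_empty
  · intro c hc
    rw [hc]
    norm_num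
  · rw [Finset.card_singleton]
    exact e

theorem shapeQ_e8 (PP : Finset (Finset GolayPt)) (hPP : ∀ P ∈ PP, P ∈ octads) :
    ∀ x ∈ famE PP Even 2 (2 * 1), ShQ 640 x := by
  intro x hx
  obtain ⟨P, hP, s, v, hs, hpar, hv, rfl⟩ := mem_famE hx
  obtain ⟨Q, t, hQ, hQc, ht, rfl⟩ := (mem_vSet _ _ _ _).mp hv
  rw [mul_one]
  exact ShQ.e8 P s Q t (hPP P hP) hs hpar hQ hQc ht

theorem shapeQ_e12 (PP : Finset (Finset GolayPt)) (hPP : ∀ P ∈ PP, P ∈ dodecads) :
    ∀ x ∈ famE PP Odd 1 (2 * 1), ShQ 448 x := by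
  intro x hx
  obtain ⟨P, hP, s, v, hs, hpar, hv, rfl⟩ := mem_famE hx
  obtain ⟨Q, t, hQ, hQc, ht, rfl⟩ := (mem_vSet _ _ _ _).mp hv
  rw [mul_one]
  exact ShQ.e12 P s Q t (hPP P hP) hs hpar hQ hQc ht

theorem famQ_E8 : IsFamQ 46632960 640 := by
  have e : (759 : ℕ) * (128 * ((24 - 8).choose 2 * 2 ^ 2)) = 46632960 := by norm_num [Nat.choose]
  have hPP : ∀ P ∈ octadFinset,
      P ∈ supports (golayCode : Set (GolayPt → ZMod 2)) ∧ P.card = 8 :=
    fun P hP => (mem_octadFinset P).mp hP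
  refine famE_corQ octadFinset Even 128 8 2 1 (by norm_num) hPP ?_ ?_ 46632960 640 ?_
    (by norm_num) (by norm_num) (shapeQ_e8 octadFinset hPP)
  · intro P hP
    have h8 : P.card = 8 := ((mem_octadFinset P).mp hP).2
    have h1 := card_even_subsets P (Finset.card_pos.mp (by omega))
    rw [h8] at h1
    omega
  · rintro c ⟨r, rfl⟩
    push_cast
    omega
  · rw [card_octadFinset]
    exact e

theorem famQ_E12 : IsFamQ 126615552 448 := by
  have e : (2576 : ℕ) * (2048 * ((24 - 12).choose 1 * 2 ^ 1)) = 126615552 := by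
    norm_num [Nat.choose]
  have hPP : ∀ P ∈ dodFinset,
      P ∈ supports (golayCode : Set (GolayPt → ZMod 2)) ∧ P.card = 12 :=
    fun P hP => (mem_dodFinset P).mp hP
  refine famE_corQ dodFinset Odd 2048 12 1 1 (by norm_num) hPP ?_ ?_ 126615552 448 ?_
    (by norm_num) (by norm_num) (shapeQ_e12 dodFinset hPP)
  · intro P hP
    have h12 : P.card = 12 := ((mem_dodFinset P).mp hP).2
    have h1 := card_odd_subsets P (Finset.card_pos.mp (by omega))
    rw [h12] at h1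
    omega
  · rintro c ⟨r, rfl⟩
    push_cast
    omega
  · rw [card_dodFinset]
    exact e

theorem isFamQ_of_isFamS {N : ℕ} {q : ℤ} (h : IsFamS N q) (hsh : ∀ x, ShQ q x) : IsFamQ N q := by
  obtain ⟨F, hc, hF⟩ := h
  exact ⟨F, hc, fun x hx => ⟨(hF x hx).1, (hF x hx).2.1, (hF x hx).2.2.1, hsh x⟩⟩

theorem famQ_E16 : IsFamQ 24870912 256 := isFamQ_of_isFamS famS_E16 ShQ.e16

theorem famQ_O7 : IsFamQ 174096384 424 := isFamQ_of_isFamS famS_O7 ShQ.odd7

theorem famT_Q (PP : Finset (Finset GolayPt)) (hPP : ∀ P ∈ PP, P ∈ octads) (N : ℕ)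
    (hN : PP.card * 1024 = N) : IsFamQ N 1408 := by
  classical
  obtain ⟨h1, h2⟩ := famT_main PP hPP
  refine ⟨famT PP, h1.trans hN, fun x hx => ⟨(h2 x hx).1, (h2 x hx).2.1, (h2 x hx).2.2, ?_⟩⟩
  unfold famT at hx
  obtain ⟨⟨P, s, p⟩, hq, rfl⟩ := Finset.mem_image.mp hx
  rw [Finset.mem_sigma, Finset.mem_product, Finset.mem_filter, Finset.mem_powerset] at hq
  exact ShQ.six P s p (hPP P hq.1) hq.2.1.1 hq.2.1.2 hq.2.2

theorem famQ_F6 : IsFamQ 777216 1408 := by
  have e : (759 : ℕ) * 1024 = 777216 := by norm_num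
  refine famT_Q octadFinset (fun P hP => (mem_octadFinset P).mp hP) 777216 ?_
  rw [card_octadFinset, e]

theorem famO_Q (CC : Finset (Finset GolayPt)) (B : Finset (GolayPt → ℤ)) (q : ℤ)
    (hCC : ∀ c ∈ CC, c ∈ supports (golayCode : Set (GolayPt → ZMod 2)))
    (hB : ∀ b ∈ B, (∀ i, b i % 4 = 1) ∧ b ∈ leechLattice ∧ pw 2 b = 64 ∧ pw 4 b = q)
    (hsh : ∀ b ∈ B, ∀ c ∈ supports (golayCode : Set (GolayPt → ZMod 2)), ShQ q (signCh c b))
    (N : ℕ) (hN : CC.card * B.card = N) : IsFamQ N q := by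
  classical
  obtain ⟨h1, h2⟩ := famO_main CC B q hCC hB
  refine ⟨famO CC B, h1.trans hN, fun x hx => ⟨(h2 x hx).1, (h2 x hx).2.1, (h2 x hx).2.2, ?_⟩⟩
  unfold famO at hx
  obtain ⟨⟨c, b⟩, hq, rfl⟩ := Finset.mem_image.mp hx
  rw [Finset.mem_product] at hq
  exact hsh b hq.2 c (hCC c hq.1)

theorem setB8_shapeQ : ∀ b ∈ setB8, ∀ c ∈ supports (golayCode : Set (GolayPt → ZMod 2)),
    ShQ 808 (signCh c b) := by
  classical
  intro b hb c hc
  unfold setB8 at hb
  obtain ⟨⟨j, T⟩, hT, rfl⟩ := Finset.mem_image.mp hb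
  rw [Finset.mem_sigma, Finset.mem_powersetCard] at hT
  exact ShQ.odd8 c T j hc hT.2.2 (fun h' => (Finset.mem_erase.mp (hT.2.1 h')).1 rfl)

theorem famQ_O8 : IsFamQ 24870912 808 := by
  have e : (4096 : ℕ) * 6072 = 24870912 := by norm_num
  refine famO_Q suppFinset setB8 808 (fun c hc => (mem_suppFinset c).mp hc) setB8_props
    setB8_shapeQ 24870912 ?_
  rw [card_suppFinset, card_setB8, e]

theorem famList_isFamQ : ∀ p ∈ famList, IsFamQ p.1 p.2 := by
  unfold famList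
  intro p hp
  simp only [List.mem_cons, List.not_mem_nil, or_false] at hp
  rcases hp with rfl | rfl | rfl | rfl | rfl | rfl | rfl | rfl
  · exact famQ_E0
  · exact famQ_F1
  · exact famQ_E8
  · exact famQ_E12
  · exact famQ_E16
  · exact famQ_F6
  · exact famQ_O7
  · exact famQ_O8

/-- the numbers and the shapes of the vectors of sum of squares 64. -/
theorem classQ : (∀ x ∈ leechLattice, sqNorm x = 64 → pw 4 x ∈ famList.map Prod.snd) ∧
    ∀ p ∈ famList,
      {x : GolayPt → ℤ | x ∈ leechLattice ∧ sqNorm x = 64 ∧ pw 4 x = p.2}.ncard = p.1 ∧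
      ∀ x ∈ leechLattice, sqNorm x = 64 → pw 4 x = p.2 → ShQ p.2 x := by
  classical
  obtain ⟨F, hc, hF, hex⟩ := fams_exact famList famList_isFamQ famList_nodup
  rw [famList_sum] at hc
  have hsub : (F : Set (GolayPt → ℤ)) ⊆ normSet 64 := fun y hy => ⟨(hF y hy).1, (hF y hy).2.1⟩
  have heq : (F : Set (GolayPt → ℤ)) = normSet 64 := by
    apply Set.eq_of_subset_of_ncard_le hsub _ (normSet_finite 64)
    rw [Set.ncard_coe_finset, hc]
    exact le_of_eq card64
  have hmem : ∀ x ∈ leechLattice, sqNorm x = 64 → x ∈ F := by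
    intro x hx hn
    have : x ∈ (F : Set (GolayPt → ℤ)) := by
      rw [heq]
      exact ⟨hx, hn⟩
    exact this
  refine ⟨fun x hx hn => (hF x (hmem x hx hn)).2.2, fun p hp => ⟨?_, ?_⟩⟩
  · rw [← (hex p hp).1, ← Set.ncard_coe_finset]
    congr 1
    ext x
    rw [Finset.mem_coe, Finset.mem_filter]
    constructor
    · rintro ⟨hx, hn, hq⟩
      exact ⟨hmem x hx hn, hq⟩
    · rintro ⟨hx, hq⟩
      exact ⟨(hF x hx).1, (hF x hx).2.1, hq⟩
  · intro x hx hn hq
    exact (hex p hp).2 x (hmem x hx hn) hq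

end Cfsg.Agent.Helper9.CrossMax
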