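import Mathlib
import Cfsg.Prelude.Def_Sporadic_a
import Cfsg.Prelude.Def_SporadicCombinatorics
import Cfsg.Agent.Helper9.Leech.Order
import Cfsg.Agent.Helper9.Golay.OctFlag4
import Cfsg.Agent.Helper9.Golay.DodFlag
import Cfsg.Agent.Helper9.CrossMax.Shape

/-!
The stabiliser of the standard cross is transitive on the vectors of sum of squares 64 with a
given sum of fourth powers (five of the eight values).
-/

set_option autoImplicit false

namespace Cfsg.Agent.Helper9.CrossMax

open Cfsg
open Cfsg.Agent.Helper9.Golay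
open Cfsg.Agent.Helper9.Leech
open scoped Pointwise

/-- one vector is mapped to another by an element of the stabiliser of the standard cross. -/
def MReach (x y : GolayPt → ℤ) : Prop :=
  ∃ (hx : x ∈ leechLattice) (g : ↥Co0), g ∈ NN ∧
    ((g • (⟨x, hx⟩ : ↥leechLattice) : ↥leechLattice) : GolayPt → ℤ) = y

theorem MReach.refl {x : GolayPt → ℤ} (hx : x ∈ leechLattice) : MReach x x :=
  ⟨hx, 1, NN.one_mem, by rw [one_smul]⟩

theorem MReach.mem_right {x y : GolayPt → ℤ} (h : MReach x y) : y ∈ leechLattice := by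
  obtain ⟨hx, g, -, rfl⟩ := h
  exact (g • (⟨x, hx⟩ : ↥leechLattice)).2

theorem MReach.trans {x y z : GolayPt → ℤ} (h1 : MReach x y) (h2 : MReach y z) : MReach x z := by
  obtain ⟨hx, g, hg, hgy⟩ := h1
  obtain ⟨hy, g', hg', hgz⟩ := h2
  refine ⟨hx, g' * g, NN.mul_mem hg' hg, ?_⟩
  rw [mul_smul]
  have h : g • (⟨x, hx⟩ : ↥leechLattice) = ⟨y, hy⟩ := Subtype.ext hgy
  rw [h]
  exact hgz

theorem MReach.symm {x y : GolayPt → ℤ} (h : MReach x y) : MReach y x := by
  have hy := h.mem_right
  obtain ⟨hx, g, hg, hgy⟩ := h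
  refine ⟨hy, g⁻¹, NN.inv_mem hg, ?_⟩
  have h : g • (⟨x, hx⟩ : ↥leechLattice) = ⟨y, hy⟩ := Subtype.ext hgy
  rw [← h, inv_smul_smul]

theorem mono_mem_NN (σ : Equiv.Perm GolayPt) (hσ : σ ∈ M24) (c : Finset GolayPt)
    (hc : c ∈ supports (golayCode : Set (GolayPt → ZMod 2))) :
    (⟨monoPerm σ hσ c hc, monoPerm_mem σ hσ c hc⟩ : ↥Co0) ∈ NN :=
  (mem_NN _).mpr (monoPerm_stab σ hσ c hc)

theorem mreach_sign {x : GolayPt → ℤ} (hx : x ∈ leechLattice) {c : Finset GolayPt}
    (hc : c ∈ supports (golayCode : Set (GolayPt → ZMod 2))) : MReach x (signCh c x) :=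
  ⟨hx, ⟨monoPerm 1 M24.one_mem c hc, monoPerm_mem _ _ _ _⟩, mono_mem_NN _ _ _ _, rfl⟩

theorem mreach_perm {x : GolayPt → ℤ} (hx : x ∈ leechLattice) {σ : Equiv.Perm GolayPt}
    (hσ : σ ∈ M24) : MReach x (fun i => x (σ.symm i)) := by
  refine ⟨hx, ⟨monoPerm σ hσ ∅ Spor.empty_mem_supports_golayCode, monoPerm_mem _ _ _ _⟩,
    mono_mem_NN _ _ _ _, ?_⟩
  change ((monoPerm σ hσ ∅ Spor.empty_mem_supports_golayCode (⟨x, hx⟩ : ↥leechLattice) :
    ↥leechLattice) : GolayPt → ℤ) = _
  rw [monoPerm_apply]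
  funext i
  unfold signedPerm
  rw [if_neg (Finset.notMem_empty i)]

/-- the elements of the stabiliser of the standard cross keep the sum of the fourth powers. -/
theorem pw_signedPerm {e : ℕ} (he : Even e) (σ : Equiv.Perm GolayPt) (c : Finset GolayPt)
    (x : GolayPt → ℤ) : pw e (signedPerm σ c x) = pw e x := by
  unfold pw
  rw [← Equiv.sum_comp σ.symm (fun j => x j ^ e)]
  apply Finset.sum_congr rfl
  intro i _
  unfold signedPerm
  split_ifs
  · exact he.neg_pow _
  · rfl

theorem pw_smul_NN {e : ℕ} (he : Even e) {g : ↥Co0} (hg : g ∈ NN) (v : ↥leechLattice) :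
    pw e ((g • v : ↥leechLattice) : GolayPt → ℤ) = pw e (v : GolayPt → ℤ) := by
  obtain ⟨σ, hσ, c, hc, rfl⟩ := stab_monomial g ((mem_NN g).mp hg)
  change pw e ((monoPerm σ hσ c hc v : ↥leechLattice) : GolayPt → ℤ) = _
  rw [monoPerm_apply, pw_signedPerm he]

theorem MReach.pw_eq {x y : GolayPt → ℤ} (h : MReach x y) {e : ℕ} (he : Even e) :
    pw e y = pw e x := by
  obtain ⟨hx, g, hg, rfl⟩ := h
  exact pw_smul_NN he hg _

/-! ### sign changes cut out by generators -/

theorem cut_span (M : ℕ) (gens : List ℕ)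
    (hgen : gens.all (fun g => codeList.any (fun m => m &&& M == g)) = true) :
    ∀ t ∈ spanL gens, ∃ m ∈ codeList, m &&& M = t := by
  induction gens with
  | nil =>
    intro t ht
    simp only [spanL, List.mem_singleton] at ht
    subst ht
    exact ⟨0, zero_mem_spanL _, Nat.zero_and M⟩
  | cons g gs ih =>
    rw [List.all_cons, Bool.and_eq_true] at hgen
    intro t ht
    simp only [spanL, List.mem_append, List.mem_map] at ht
    rcases ht with ht | ⟨x, hx, rfl⟩
    · exact ih hgen.2 t ht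
    · obtain ⟨mx, hmx, hx'⟩ := ih hgen.2 x hx
      obtain ⟨mg, hmg, hg'⟩ := List.any_eq_true.mp hgen.1
      rw [beq_iff_eq] at hg'
      refine ⟨mg ^^^ mx, xor_mem_spanL hmg hmx, ?_⟩
      rw [Nat.and_xor_distrib_right, hg', hx']

theorem exists_mask_sub' (M : ℕ) (bits : List ℕ)
    (hbits : ∀ p : GolayPt, M.testBit (ptIdx p) = true → 2 ^ ptIdx p ∈ spanL bits)
    (s : Finset GolayPt) (hs : s ⊆ suppM M) :
    ∃ t ∈ spanL bits, suppM t = s := by
  classical
  induction s using Finset.induction_on with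
  | empty => exact ⟨0, zero_mem_spanL _, suppM_zero⟩
  | insert p s' hp ih =>
    obtain ⟨t', ht', hst'⟩ := ih (fun q hq => hs (Finset.mem_insert_of_mem hq))
    have hpo : p ∈ suppM M := hs (Finset.mem_insert_self p s')
    rw [mem_suppM] at hpo
    refine ⟨2 ^ ptIdx p ^^^ t', xor_mem_spanL (hbits p hpo) ht', ?_⟩
    ext q
    rw [mem_suppM, Nat.testBit_xor, Nat.testBit_two_pow, Finset.mem_insert, ← hst', mem_suppM]
    by_cases hqp : q = p
    · subst hqp
      have h0 : t'.testBit (ptIdx q) = false := by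
        rw [← hst', mem_suppM] at hp
        simpa using hp
      simp [h0]
    · have hne : ptIdx p ≠ ptIdx q := fun h => hqp (ptIdx_injective h).symm
      simp [hne, hqp]

/-- sign changes on a set of points, from generators. -/
theorem exists_cut_gens (M : ℕ) (b : ℕ) (gens : List ℕ) (adm : ℕ → Bool)
    (hbits : ∀ p : GolayPt, M.testBit (ptIdx p) = true → 2 ^ ptIdx p ∈ spanL (b :: gens))
    (hgen : gens.all (fun g => codeList.any (fun m => m &&& M == g)) = true)
    (hodd : ((spanL gens).map (fun x => b ^^^ x)).all (fun t => !adm t) = true)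
    (s : Finset GolayPt) (hs : s ⊆ suppM M) (hadm : ∀ t, suppM t = s → adm t = true) :
    ∃ c ∈ supports (golayCode : Set (GolayPt → ZMod 2)), c ∩ suppM M = s := by
  obtain ⟨t, ht, hts⟩ := exists_mask_sub' M (b :: gens) hbits s hs
  have hat := hadm t hts
  simp only [spanL, List.mem_append] at ht
  rcases ht with ht | ht
  · obtain ⟨m, hm, hmt⟩ := cut_span M gens hgen t ht
    exact ⟨suppM m, (mem_supports_iff _).mpr ⟨m, hm, rfl⟩, by rw [suppM_inter, hmt, hts]⟩
  · have h := List.all_eq_true.mp hodd t ht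
    rw [hat] at h
    exact absurd h (by decide)

/-! ### the two sets of points -/

/-- the mask of the standard octad and two more points. -/
def mOct : ℕ := 5375

/-- the mask of the standard dodecad and one more point. -/
def mDod : ℕ := 16748579

theorem cutOct_bits : ∀ p : GolayPt, mOct.testBit (ptIdx p) = true →
    2 ^ ptIdx p ∈ spanL (1 :: [3, 5, 9, 17, 129, 1025, 4097, 32, 64]) := by decide +kernel

theorem cutOct_gen : ([3, 5, 9, 17, 129, 1025, 4097, 32, 64] : List ℕ).all
    (fun g => codeList.any (fun m => m &&& mOct == g)) = true := by decide +kernel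

theorem cutOct_odd : ((spanL [3, 5, 9, 17, 129, 1025, 4097, 32, 64]).map (fun x => 1 ^^^ x)).all
    (fun t => !(popc (t &&& 5279) % 2 == 0)) = true := by decide +kernel

theorem cutDod_bits : ∀ p : GolayPt, mDod.testBit (ptIdx p) = true →
    2 ^ ptIdx p ∈ spanL (2 :: [34, 4098, 32770, 65538, 131074, 262146, 524290, 1048578,
      2097154, 4194306, 8388610, 1]) := by decide +kernel

theorem cutDod_gen : ([34, 4098, 32770, 65538, 131074, 262146, 524290, 1048578,
      2097154, 4194306, 8388610, 1] : List ℕ).all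
    (fun g => codeList.any (fun m => m &&& mDod == g)) = true := by decide +kernel

theorem cutDod_odd : ((spanL [34, 4098, 32770, 65538, 131074, 262146, 524290, 1048578,
      2097154, 4194306, 8388610, 1]).map (fun x => 2 ^^^ x)).all
    (fun t => !(popc (t &&& cdod0) % 2 == 0)) = true := by decide +kernel

end Cfsg.Agent.Helper9.CrossMax
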