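import Mathlib
import Cfsg.Prelude.Def_Sporadic_a
import Cfsg.Prelude.Def_SporadicCombinatorics
import Cfsg.Agent.Helper9.CrossMax.Basic
import Cfsg.Agent.Helper9.CrossMax.MTrans

/-!
Counting the crosses containing a vector with a given sum of fourth powers.
-/

set_option autoImplicit false

namespace Cfsg.Agent.Helper9.CrossMax

open Cfsg
open Cfsg.Agent.Helper9.Golay
open Cfsg.Agent.Helper9.Leech
open scoped Pointwise

theorem ncard_eq_mul_of_fibers {α β : Type*} (A : Set α) (hA : A.Finite) (f : α → β) (k : ℕ)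
    (hk : ∀ a ∈ A, {a' | a' ∈ A ∧ f a' = f a}.ncard = k) : A.ncard = (f '' A).ncard * k := by
  classical
  have h1 := Finset.card_eq_sum_card_fiberwise (f := f) (s := hA.toFinset)
    (t := hA.toFinset.image f) (fun a ha => Finset.mem_image_of_mem f ha)
  have h2 : ∀ b ∈ hA.toFinset.image f, (hA.toFinset.filter (fun a => f a = b)).card = k := by
    intro b hb
    obtain ⟨a, ha, rfl⟩ := Finset.mem_image.mp hb
    rw [← hk a ((Set.Finite.mem_toFinset hA).mp ha), ← Set.ncard_coe_finset]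
    congr 1
    ext a'
    simp
  rw [Finset.sum_const_nat h2] at h1
  rw [Set.ncard_eq_toFinset_card A hA, h1, ← Set.ncard_coe_finset (hA.toFinset.image f),
    Finset.coe_image, Set.Finite.coe_toFinset]

/-- the vectors of sum of squares 64 with a given sum of fourth powers. -/
def Wq (q : ℤ) : Set ↥leechLattice :=
  {v | sqNorm (v : GolayPt → ℤ) = 64 ∧ pw 4 (v : GolayPt → ℤ) = q}

theorem Wq_finite (q : ℤ) : (Wq q).Finite := by
  have h : (Subtype.val '' Wq q).Finite := by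
    apply (normSet_finite 64).subset
    rintro y ⟨v, hv, rfl⟩
    exact ⟨v.2, hv.1⟩
  exact h.of_finite_image Subtype.val_injective.injOn

theorem ncard_Wq {N : ℕ} {q : ℤ} (hp : (N, q) ∈ famList) : (Wq q).ncard = N := by
  have h0 : {x : GolayPt → ℤ | x ∈ leechLattice ∧ sqNorm x = 64 ∧ pw 4 x = q}.ncard = N :=
    (classQ.2 (N, q) hp).1
  rw [← h0, ← Set.ncard_image_of_injective _ Subtype.val_injective]
  congr 1
  ext y
  constructor
  · rintro ⟨v, hv, rfl⟩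
    exact ⟨v.2, hv.1, hv.2⟩
  · rintro ⟨hy, hn, hq⟩
    exact ⟨⟨y, hy⟩, ⟨hn, hq⟩, rfl⟩

/-- the crosses containing a vector with a given sum of fourth powers. -/
def Cq (q : ℤ) : Set (Set ↥leechLattice) :=
  {C | C ∈ MulAction.orbit ↥Co0 crossSet ∧ ∃ v ∈ C, pw 4 (v : GolayPt → ℤ) = q}

theorem cnt_smul {g : ↥Co0} (hg : g ∈ NN) (R : Set ↥leechLattice) (q : ℤ) :
    {v : ↥leechLattice | v ∈ g • R ∧ pw 4 (v : GolayPt → ℤ) = q}.ncard =
      {v : ↥leechLattice | v ∈ R ∧ pw 4 (v : GolayPt → ℤ) = q}.ncard := by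
  have h : {v : ↥leechLattice | v ∈ g • R ∧ pw 4 (v : GolayPt → ℤ) = q} =
      (fun v : ↥leechLattice => g • v) ''
        {v : ↥leechLattice | v ∈ R ∧ pw 4 (v : GolayPt → ℤ) = q} := by
    ext u
    constructor
    · rintro ⟨⟨v, hv, rfl⟩, hq⟩
      refine ⟨v, ⟨hv, ?_⟩, rfl⟩
      rw [← hq]
      exact (pw_smul_NN (by decide) hg v).symm
    · rintro ⟨v, ⟨hv, hq⟩, rfl⟩
      refine ⟨⟨v, hv, rfl⟩, ?_⟩
      rw [← hq]
      exact pw_smul_NN (by decide) hg v
  rw [h, Set.ncard_image_of_injective _ (MulAction.injective g)]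

/-- the crosses containing a vector with a given sum of fourth powers are the images of one of
them under the stabiliser of the standard cross. -/
theorem Cq_eq_smul {q : ℤ} (w : ↥leechLattice)
    (hreach : ∀ x ∈ leechLattice, sqNorm x = 64 → pw 4 x = q → MReach x (w : GolayPt → ℤ))
    {C : Set ↥leechLattice} (hC : C ∈ Cq q) : ∃ n ∈ NN, n • Cr w = C := by
  obtain ⟨hCo, v, hvC, hvq⟩ := hC
  rw [orbit_crossSet] at hCo
  obtain ⟨w0, hw0, rfl⟩ := hCo
  have hvn : sqNorm (v : GolayPt → ℤ) = 64 := (sqNorm_of_mem_Cr hvC).trans hw0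
  obtain ⟨hx, g, hg, hgw⟩ := hreach (v : GolayPt → ℤ) v.2 hvn hvq
  have hgv : g • v = w := Subtype.ext hgw
  refine ⟨g⁻¹, NN.inv_mem hg, ?_⟩
  rw [← hgv, ← smul_Cr, inv_smul_smul]
  exact Cr_eq_of_mem hvC

theorem Cr_mem_orbit (v : ↥leechLattice) (hv : sqNorm (v : GolayPt → ℤ) = 64) :
    Cr v ∈ MulAction.orbit ↥Co0 crossSet := by
  rw [orbit_crossSet]
  exact ⟨v, hv, rfl⟩

theorem image_Cr_Wq (q : ℤ) : Cr '' Wq q = Cq q := by
  ext C
  constructor
  · rintro ⟨v, hv, rfl⟩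
    exact ⟨Cr_mem_orbit v hv.1, v, mem_Cr_self v, hv.2⟩
  · rintro ⟨hCo, v, hvC, hvq⟩
    rw [orbit_crossSet] at hCo
    obtain ⟨w0, hw0, rfl⟩ := hCo
    exact ⟨v, ⟨(sqNorm_of_mem_Cr hvC).trans hw0, hvq⟩, Cr_eq_of_mem hvC⟩

/-- the number of the crosses containing a vector with a given sum of fourth powers. -/
theorem ncard_Cq {q : ℤ} (w : ↥leechLattice)
    (hreach : ∀ x ∈ leechLattice, sqNorm x = 64 → pw 4 x = q → MReach x (w : GolayPt → ℤ))
    (k : ℕ) (hk : {v : ↥leechLattice | v ∈ Cr w ∧ pw 4 (v : GolayPt → ℤ) = q}.ncard = k) :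
    (Wq q).ncard = (Cq q).ncard * k := by
  rw [← image_Cr_Wq]
  apply ncard_eq_mul_of_fibers _ (Wq_finite q)
  intro a ha
  have hfib : {a' | a' ∈ Wq q ∧ Cr a' = Cr a} =
      {v : ↥leechLattice | v ∈ Cr a ∧ pw 4 (v : GolayPt → ℤ) = q} := by
    ext v
    constructor
    · rintro ⟨hv, hvc⟩
      refine ⟨?_, hv.2⟩
      rw [← hvc]
      exact mem_Cr_self v
    · rintro ⟨hv, hvq⟩
      exact ⟨⟨(sqNorm_of_mem_Cr hv).trans ha.1, hvq⟩, Cr_eq_of_mem hv⟩
  rw [hfib]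
  have hCa : Cr a ∈ Cq q := ⟨Cr_mem_orbit a ha.1, a, mem_Cr_self a, ha.2⟩
  obtain ⟨n, hn, hna⟩ := Cq_eq_smul w hreach hCa
  rw [← hna, cnt_smul hn, hk]

/-- the crosses containing a vector with a given sum of fourth powers contain no vector with
another sum of fourth powers, if this is so for one of them. -/
theorem Cq_not_has {q : ℤ} (w : ↥leechLattice) (hw : sqNorm (w : GolayPt → ℤ) = 64)
    (hreach : ∀ x ∈ leechLattice, sqNorm x = 64 → pw 4 x = q → MReach x (w : GolayPt → ℤ))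
    (q' : ℤ) (h0 : {v : ↥leechLattice | v ∈ Cr w ∧ pw 4 (v : GolayPt → ℤ) = q'}.ncard = 0)
    {C : Set ↥leechLattice} (hC : C ∈ Cq q) : ¬ ∃ v ∈ C, pw 4 (v : GolayPt → ℤ) = q' := by
  rintro ⟨v, hvC, hvq⟩
  obtain ⟨n, hn, rfl⟩ := Cq_eq_smul w hreach hC
  have h1 := cnt_smul hn (Cr w) q'
  rw [h0] at h1
  have hfin : {u : ↥leechLattice | u ∈ n • Cr w ∧ pw 4 (u : GolayPt → ℤ) = q'}.Finite := by
    apply ((Cr_finite w hw).image (fun u => n • u)).subset
    rintro u ⟨hu, -⟩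
    exact hu
  rw [Set.ncard_eq_zero hfin] at h1
  have : v ∈ {u : ↥leechLattice | u ∈ n • Cr w ∧ pw 4 (u : GolayPt → ℤ) = q'} := ⟨hvC, hvq⟩
  rw [h1] at this
  exact this

end Cfsg.Agent.Helper9.CrossMax
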