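import Mathlib
import Cfsg.Prelude.Def_Sporadic_a
import Cfsg.Prelude.Def_SporadicCombinatorics
import Cfsg.Agent.Helper9.CrossMax.MTrans

/-!
The stabiliser of the standard cross is transitive on the vectors of sum of squares 64 with a
given sum of fourth powers (five of the eight values): the five statements.
-/

set_option autoImplicit false

namespace Cfsg.Agent.Helper9.CrossMax

open Cfsg
open Cfsg.Agent.Helper9.Golay
open Cfsg.Agent.Helper9.Leech
open scoped Pointwise

/-! ### the shapes, inverted -/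

theorem shq_1024 {x : GolayPt → ℤ} (h : ShQ 1024 x) :
    ∃ Q t : Finset GolayPt, Q.card = 4 ∧ t ⊆ Q ∧ x = pat 4 Q t := by
  generalize hq : (1024 : ℤ) = q at h
  cases h
  case four Q t hQ ht =>
    refine ⟨Q, t, hQ, ht, ?_⟩
    rw [dblHom_pat]
    norm_num
  all_goals exact absurd hq (by norm_num)

theorem shq_4096 {x : GolayPt → ℤ} (h : ShQ 4096 x) :
    ∃ Q t : Finset GolayPt, Q.card = 1 ∧ t ⊆ Q ∧ x = pat 8 Q t := by
  generalize hq : (4096 : ℤ) = q at h
  cases h
  case one Q t hQ ht =>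
    refine ⟨Q, t, hQ, ht, ?_⟩
    rw [dblHom_pat]
    norm_num
  all_goals exact absurd hq (by norm_num)

theorem shq_1408 {x : GolayPt → ℤ} (h : ShQ 1408 x) :
    ∃ (P s : Finset GolayPt) (p : GolayPt), P ∈ octads ∧ s ⊆ P ∧ Odd s.card ∧ p ∈ P ∧
      x = dblHom (trip P s p) := by
  generalize hq : (1408 : ℤ) = q at h
  cases h
  case six P s p hP hs ho hp => exact ⟨P, s, p, hP, hs, ho, hp, rfl⟩
  all_goals exact absurd hq (by norm_num)

theorem shq_640 {x : GolayPt → ℤ} (h : ShQ 640 x) :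
    ∃ P s Q t : Finset GolayPt, P ∈ octads ∧ s ⊆ P ∧ Even s.card ∧ Q ⊆ Pᶜ ∧ Q.card = 2 ∧ t ⊆ Q ∧
      x = dblHom (pat 1 P s + pat 2 Q t) := by
  generalize hq : (640 : ℤ) = q at h
  cases h
  case e8 P s Q t hP hs he hQ hQc ht => exact ⟨P, s, Q, t, hP, hs, he, hQ, hQc, ht, rfl⟩
  all_goals exact absurd hq (by norm_num)

theorem shq_448 {x : GolayPt → ℤ} (h : ShQ 448 x) :
    ∃ P s Q t : Finset GolayPt, P ∈ dodecads ∧ s ⊆ P ∧ Odd s.card ∧ Q ⊆ Pᶜ ∧ Q.card = 1 ∧ t ⊆ Q ∧
      x = dblHom (pat 1 P s + pat 2 Q t) := by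
  generalize hq : (448 : ℤ) = q at h
  cases h
  case e12 P s Q t hP hs ho hQ hQc ht => exact ⟨P, s, Q, t, hP, hs, ho, hQ, hQc, ht, rfl⟩
  all_goals exact absurd hq (by norm_num)

theorem shq_808 {x : GolayPt → ℤ} (h : ShQ 808 x) :
    ∃ (c T : Finset GolayPt) (j : GolayPt),
      c ∈ supports (golayCode : Set (GolayPt → ZMod 2)) ∧ T.card = 2 ∧ j ∉ T ∧
      x = signCh c (base2 j T) := by
  generalize hq : (808 : ℤ) = q at h
  cases h
  case odd8 c T j hc hT hj => exact ⟨c, T, j, hc, hT, hj, rfl⟩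
  all_goals exact absurd hq (by norm_num)

theorem shape_of {N : ℕ} {q : ℤ} (hp : (N, q) ∈ famList) {x : GolayPt → ℤ}
    (hx : x ∈ leechLattice) (hn : sqNorm x = 64) (hq : pw 4 x = q) : ShQ q x :=
  (classQ.2 (N, q) hp).2 x hx hn hq

/-! ### the representatives -/

/-- the representative with sum of fourth powers 1024. -/
def w1024 : GolayPt → ℤ := pat 4 q0 ∅

/-- the representative with sum of fourth powers 1408. -/
def w1408 : GolayPt → ℤ := f6

/-- two points off the standard octad. -/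
def q56 : Finset GolayPt := {idxPtN 5, idxPtN 6}

/-- the representative with sum of fourth powers 640. -/
def w640 : GolayPt → ℤ := dblHom (pat 1 (suppM 5279) ∅ + pat 2 q56 ∅)

/-- the representative with sum of fourth powers 448. -/
def w448 : GolayPt → ℤ := dblHom (pat 1 (suppM cdod0) {idxPtN 1} + pat 2 {idxPtN 0} ∅)

/-- the representative with sum of fourth powers 808. -/
def w808 : GolayPt → ℤ := base2 (some 0) {some 1, some 2}

/-! ### the first, second and fifth value -/

theorem mreach_1024 {x : GolayPt → ℤ} (hx : x ∈ leechLattice) (hn : sqNorm x = 64)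
    (hq : pw 4 x = 1024) : MReach x w1024 := by
  classical
  obtain ⟨Q, t, hQ, ht, rfl⟩ := shq_1024
    (shape_of (N := 170016) (by unfold famList; simp) hx hn hq)
  have hmem : pat 4 Q ∅ ∈ leechLattice := four_mem64 hQ (Finset.empty_subset _)
  obtain ⟨c, hc, hcut⟩ := exists_cut_four hQ ht
  have h1 := mreach_sign hmem hc
  rw [pat_sign, hcut] at h1
  obtain ⟨σ, hσ, hσQ⟩ := m24_set_trans (n := 4) (by norm_num) hQ q0_card
  have h2 := mreach_perm hmem hσ
  rw [pat_perm, hσQ, Finset.smul_finset_empty] at h2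
  exact h1.symm.trans h2

theorem mreach_1408 {x : GolayPt → ℤ} (hx : x ∈ leechLattice) (hn : sqNorm x = 64)
    (hq : pw 4 x = 1408) : MReach x w1408 := by
  classical
  obtain ⟨P, s, p, hP, hs, ho, hp, rfl⟩ := shq_1408
    (shape_of (N := 777216) (by unfold famList; simp) hx hn hq)
  obtain ⟨h, hh, hho, hhp⟩ := exists_flag_in hP hp
  have h1 := mreach_perm hx (M24.inv_mem hh)
  have e1 : h⁻¹ • P = suppM 5279 := by rw [← hho, inv_smul_smul]
  have e2 : h⁻¹ p = idxPtN 0 := by
    rw [← hhp, Equiv.Perm.inv_def, Equiv.symm_apply_apply]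
  have e3 : (fun i => dblHom (trip P s p) ((h⁻¹).symm i)) =
      dblHom (fun i => trip P s p ((h⁻¹).symm i)) := rfl
  rw [e3, trip_perm, e1, e2] at h1
  have hs' : h⁻¹ • s ⊆ suppM 5279 := by
    have := Finset.smul_finset_subset_smul_finset (a := h⁻¹) hs
    rw [e1] at this
    exact this
  have ho' : Odd (h⁻¹ • s).card := by
    rw [Finset.card_smul_finset]
    exact ho
  generalize h⁻¹ • s = s' at h1 hs' ho'
  have hs0 : ({idxPtN 0} : Finset GolayPt) ⊆ suppM 5279 :=
    Finset.singleton_subset_iff.mpr p0_mem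
  have hev : Even (symmDiff s' {idxPtN 0}).card :=
    even_symmDiff ho' (by rw [Finset.card_singleton]; exact odd_one)
  have hsub : symmDiff s' {idxPtN 0} ⊆ suppM 5279 := by
    intro q hq
    rcases Finset.mem_symmDiff.mp hq with h | h
    · exact hs' h.1
    · exact hs0 h.1
  obtain ⟨c, hc, hcut⟩ := exists_cut_oct oct5279_mem hsub hev
  have h2 := mreach_sign h1.mem_right hc
  rw [signCh_trip hs', hcut, symmDiff_symmDiff_cancel_left] at h2
  exact h1.trans h2

theorem mreach_808 {x : GolayPt → ℤ} (hx : x ∈ leechLattice) (hn : sqNorm x = 64)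
    (hq : pw 4 x = 808) : MReach x w808 := by
  classical
  obtain ⟨c, T, j, hc, hT, hj, rfl⟩ := shq_808
    (shape_of (N := 24870912) (by unfold famList; simp) hx hn hq)
  have hb : base2 j T ∈ leechLattice := base2_mem hT hj
  have h1 := mreach_sign hx hc
  rw [signCh_twice] at h1
  obtain ⟨a, b, hab, rfl⟩ := Finset.card_eq_two.mp hT
  have hja : j ≠ a := fun h => hj (by rw [h]; exact Finset.mem_insert_self _ _)
  have hjb : j ≠ b := fun h => hj (by
    rw [h]; exact Finset.mem_insert_of_mem (Finset.mem_singleton_self _))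
  obtain ⟨σ, hσ, hσj, hσa, hσb⟩ := m24_three_trans hja hjb hab
    (a' := some 0) (b' := some 1) (c' := some 2) (by decide) (by decide) (by decide)
  have h2 := mreach_perm hb hσ
  rw [base2_perm, Finset.smul_finset_insert, Finset.smul_finset_singleton, Equiv.Perm.smul_def,
    Equiv.Perm.smul_def, hσj, hσa, hσb] at h2
  exact h1.trans h2

/-! ### the third and the fourth value -/

theorem perm_e (k : ℤ) (P s Q t : Finset GolayPt) (σ : Equiv.Perm GolayPt) :
    (fun i => dblHom (pat 1 P s + pat k Q t) (σ.symm i)) =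
      dblHom (pat 1 (σ • P) (σ • s) + pat k (σ • Q) (σ • t)) := by
  funext i
  have h1 := congrFun (pat_perm 1 P s σ) i
  have h2 := congrFun (pat_perm k Q t σ) i
  rw [dblHom_apply, dblHom_apply, Pi.add_apply, Pi.add_apply, h1, h2]

theorem signCh_e {k : ℤ} {P s Q t : Finset GolayPt} (hs : s ⊆ P) (ht : t ⊆ Q)
    (c : Finset GolayPt) :
    signCh c (dblHom (pat 1 P s + pat k Q t)) =
      dblHom (pat 1 P (symmDiff s (c ∩ P)) + pat k Q (symmDiff t (c ∩ Q))) := by
  funext i
  have h1 := congrFun (signCh_pat (k := 1) hs c) i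
  have h2 := congrFun (signCh_pat (k := k) ht c) i
  unfold signCh at h1 h2 ⊢
  rw [dblHom_apply, dblHom_apply, Pi.add_apply, Pi.add_apply, ← h1, ← h2]
  by_cases hc : i ∈ c
  · rw [if_pos hc, if_pos hc, if_pos hc]
    ring
  · rw [if_neg hc, if_neg hc, if_neg hc]

theorem cut_two {A B s t c : Finset GolayPt} (hAB : Disjoint A B) (hs : s ⊆ A) (ht : t ⊆ B)
    (hc : c ∩ (A ∪ B) = s ∪ t) : c ∩ A = s ∧ c ∩ B = t := by
  rw [Finset.disjoint_left] at hAB
  constructor
  · ext p
    constructor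
    · intro hp
      rw [Finset.mem_inter] at hp
      have h1 : p ∈ c ∩ (A ∪ B) := Finset.mem_inter.mpr ⟨hp.1, Finset.mem_union_left _ hp.2⟩
      rw [hc] at h1
      rcases Finset.mem_union.mp h1 with h | h
      · exact h
      · exact absurd (ht h) (hAB hp.2)
    · intro hp
      have h1 : p ∈ c ∩ (A ∪ B) := by rw [hc]; exact Finset.mem_union_left _ hp
      exact Finset.mem_inter.mpr ⟨(Finset.mem_inter.mp h1).1, hs hp⟩
  · ext p
    constructor
    · intro hp
      rw [Finset.mem_inter] at hp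
      have h1 : p ∈ c ∩ (A ∪ B) := Finset.mem_inter.mpr ⟨hp.1, Finset.mem_union_right _ hp.2⟩
      rw [hc] at h1
      rcases Finset.mem_union.mp h1 with h | h
      · exact absurd hp.2 (hAB (hs h))
      · exact h
    · intro hp
      have h1 : p ∈ c ∩ (A ∪ B) := by rw [hc]; exact Finset.mem_union_right _ hp
      exact Finset.mem_inter.mpr ⟨(Finset.mem_inter.mp h1).1, ht hp⟩

theorem union_inter_left {A B s t : Finset GolayPt} (hAB : Disjoint A B) (hs : s ⊆ A)
    (ht : t ⊆ B) : (s ∪ t) ∩ A = s := by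
  rw [Finset.disjoint_left] at hAB
  ext p
  rw [Finset.mem_inter, Finset.mem_union]
  constructor
  · rintro ⟨h | h, hA⟩
    · exact h
    · exact absurd (ht h) (hAB hA)
  · intro h
    exact ⟨Or.inl h, hs h⟩

theorem popc_and_of_suppM {m M : ℕ} {u : Finset GolayPt} (h : suppM m = u) :
    popc (m &&& M) = (u ∩ suppM M).card := by
  rw [← h, suppM_inter, card_suppM]

theorem suppM_mOct : suppM mOct = suppM 5279 ∪ q56 := by
  ext p
  unfold q56
  rw [Finset.mem_union, mem_suppM, mem_suppM, Finset.mem_insert, Finset.mem_singleton]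
  revert p
  decide

theorem disj_oct : Disjoint (suppM 5279) q56 := by
  rw [Finset.disjoint_left]
  intro p hp
  unfold q56
  rw [mem_suppM] at hp
  rw [Finset.mem_insert, Finset.mem_singleton]
  revert p
  decide

theorem suppM_mDod : suppM mDod = suppM cdod0 ∪ {idxPtN 0} := by
  ext p
  rw [Finset.mem_union, mem_suppM, mem_suppM, Finset.mem_singleton]
  revert p
  decide

theorem disj_dod : Disjoint (suppM cdod0) ({idxPtN 0} : Finset GolayPt) := by
  rw [Finset.disjoint_left]
  intro p hp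
  rw [mem_suppM] at hp
  rw [Finset.mem_singleton]
  revert p
  decide

theorem idx1_mem_cdod0 : idxPtN 1 ∈ suppM cdod0 := by
  rw [mem_suppM]
  decide

theorem mreach_640 {x : GolayPt → ℤ} (hx : x ∈ leechLattice) (hn : sqNorm x = 64)
    (hq : pw 4 x = 640) : MReach x w640 := by
  classical
  obtain ⟨P, s, Q, t, hP, hs, he, hQ, hQc, ht, rfl⟩ := shq_640
    (shape_of (N := 46632960) (by unfold famList; simp) hx hn hq)
  obtain ⟨r, r', hrr', rfl⟩ := Finset.card_eq_two.mp hQc
  have hrP : r ∉ P := Finset.mem_compl.mp (hQ (Finset.mem_insert_self _ _))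
  have hr'P : r' ∉ P :=
    Finset.mem_compl.mp (hQ (Finset.mem_insert_of_mem (Finset.mem_singleton_self _)))
  obtain ⟨h, hh, hhP, hhr, hhr'⟩ := exists_flag_out2 hP hrP hr'P hrr'
  have h1 := mreach_perm hx (M24.inv_mem hh)
  rw [perm_e] at h1
  have e1 : h⁻¹ • P = suppM 5279 := by rw [← hhP, inv_smul_smul]
  have e2 : h⁻¹ • ({r, r'} : Finset GolayPt) = q56 := by
    rw [Finset.smul_finset_insert, Finset.smul_finset_singleton, Equiv.Perm.smul_def,
      Equiv.Perm.smul_def, ← hhr, ← hhr', Equiv.Perm.inv_def, Equiv.symm_apply_apply, Equiv.symm_apply_apply]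
    rfl
  have hs' : h⁻¹ • s ⊆ suppM 5279 := by
    rw [← e1]
    exact Finset.smul_finset_subset_smul_finset hs
  have ht' : h⁻¹ • t ⊆ q56 := by
    rw [← e2]
    exact Finset.smul_finset_subset_smul_finset ht
  have he' : Even (h⁻¹ • s).card := by
    rw [Finset.card_smul_finset]
    exact he
  rw [e1, e2] at h1
  generalize h⁻¹ • s = s1 at h1 hs' he'
  generalize h⁻¹ • t = t1 at h1 ht'
  obtain ⟨c, hc, hcut⟩ := exists_cut_gens mOct 1 _ (fun t => popc (t &&& 5279) % 2 == 0)
    cutOct_bits cutOct_gen cutOct_odd (s1 ∪ t1)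
    (by rw [suppM_mOct]; exact Finset.union_subset_union hs' ht')
    (by
      intro m hm
      rw [popc_and_of_suppM hm, union_inter_left disj_oct hs' ht']
      rw [Nat.even_iff] at he'
      rw [he']
      rfl)
  rw [suppM_mOct] at hcut
  obtain ⟨hc1, hc2⟩ := cut_two disj_oct hs' ht' hcut
  have h2 := mreach_sign h1.mem_right hc
  rw [signCh_e hs' ht', hc1, hc2, symmDiff_self, symmDiff_self, Finset.bot_eq_empty] at h2
  exact h1.trans h2

theorem mreach_448 {x : GolayPt → ℤ} (hx : x ∈ leechLattice) (hn : sqNorm x = 64)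
    (hq : pw 4 x = 448) : MReach x w448 := by
  classical
  obtain ⟨P, s, Q, t, hP, hs, ho, hQ, hQc, ht, rfl⟩ := shq_448
    (shape_of (N := 126615552) (by unfold famList; simp) hx hn hq)
  obtain ⟨a, rfl⟩ := Finset.card_eq_one.mp hQc
  have haP : a ∈ Pᶜ := hQ (Finset.mem_singleton_self a)
  have hPc : Pᶜ ∈ dodecads :=
    ⟨compl_mem_supports hP.1, by rw [Finset.card_compl, card_golayPt, hP.2]⟩
  obtain ⟨h, hh, hhP, hha⟩ := exists_dflag_in hPc haP
  have h1 := mreach_perm hx (M24.inv_mem hh)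
  rw [perm_e] at h1
  have e1 : h⁻¹ • P = suppM cdod0 := by
    ext p
    rw [mem_smul_finset_iff', inv_inv, mem_cdod0_iff]
    have h3 : h p ∈ Pᶜ ↔ p ∈ suppM dod0 := by
      rw [← hhP]
      exact Finset.smul_mem_smul_finset_iff h
    rw [Finset.mem_compl] at h3
    tauto
  have e2 : h⁻¹ • ({a} : Finset GolayPt) = {idxPtN 0} := by
    rw [Finset.smul_finset_singleton, Equiv.Perm.smul_def, ← hha, Equiv.Perm.inv_def, Equiv.symm_apply_apply]
  have hs' : h⁻¹ • s ⊆ suppM cdod0 := by
    rw [← e1]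
    exact Finset.smul_finset_subset_smul_finset hs
  have ht' : h⁻¹ • t ⊆ ({idxPtN 0} : Finset GolayPt) := by
    rw [← e2]
    exact Finset.smul_finset_subset_smul_finset ht
  have ho' : Odd (h⁻¹ • s).card := by
    rw [Finset.card_smul_finset]
    exact ho
  rw [e1, e2] at h1
  generalize h⁻¹ • s = s1 at h1 hs' ho'
  generalize h⁻¹ • t = t1 at h1 ht'
  have hs0 : ({idxPtN 1} : Finset GolayPt) ⊆ suppM cdod0 :=
    Finset.singleton_subset_iff.mpr idx1_mem_cdod0
  have hev : Even (symmDiff s1 {idxPtN 1}).card :=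
    even_symmDiff ho' (by rw [Finset.card_singleton]; exact odd_one)
  have hsub : symmDiff s1 {idxPtN 1} ⊆ suppM cdod0 := by
    intro q hq
    rcases Finset.mem_symmDiff.mp hq with h | h
    · exact hs' h.1
    · exact hs0 h.1
  obtain ⟨c, hc, hcut⟩ := exists_cut_gens mDod 2 _ (fun t => popc (t &&& cdod0) % 2 == 0)
    cutDod_bits cutDod_gen cutDod_odd (symmDiff s1 {idxPtN 1} ∪ t1)
    (by rw [suppM_mDod]; exact Finset.union_subset_union hsub ht')
    (by
      intro m hm
      rw [popc_and_of_suppM hm, union_inter_left disj_dod hsub ht']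
      rw [Nat.even_iff] at hev
      rw [hev]
      rfl)
  rw [suppM_mDod] at hcut
  obtain ⟨hc1, hc2⟩ := cut_two disj_dod hsub ht' hcut
  have h2 := mreach_sign h1.mem_right hc
  rw [signCh_e hs' ht', hc1, hc2, symmDiff_symmDiff_cancel_left, symmDiff_self,
    Finset.bot_eq_empty] at h2
  exact h1.trans h2

end Cfsg.Agent.Helper9.CrossMax
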