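import Mathlib
import Cfsg.Prelude.Def_Sporadic_a
import Cfsg.Prelude.Def_SporadicCombinatorics
import Cfsg.Agent.Helper9.CrossMax.Chk

/-!
The cross of the representative with sum of fourth powers 448.
-/

set_option autoImplicit false

namespace Cfsg.Agent.Helper9.CrossMax

open Cfsg
open Cfsg.Agent.Helper9.Golay
open Cfsg.Agent.Helper9.Leech

/-- the representative with sum of fourth powers 448, as a list. -/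
def wL448 : List ℤ := [4, -2, 0, 0, 0, 2, 0, 0, 0, 0, 0, 0, 2, 0, 0, 2, 2, 2, 2, 2, 2, 2, 2, 2]

/-- the cross of the representative with sum of fourth powers 448, with the halved differences. -/
def crossL448 : List (List ℤ × List ℤ) := [
  ([-4, 2, 0, 0, 0, -2, 0, 0, 0, 0, 0, 0, -2, 0, 0, -2, -2, -2, -2, -2, -2, -2, -2, -2],
   [4, -2, 0, 0, 0, 2, 0, 0, 0, 0, 0, 0, 2, 0, 0, 2, 2, 2, 2, 2, 2, 2, 2, 2]),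
  ([-2, -4, 2, 2, 2, 0, 2, 2, 2, 2, 2, 2, 0, 2, 2, 0, 0, 0, 0, 0, 0, 0, 0, 0],
   [3, 1, -1, -1, -1, 1, -1, -1, -1, -1, -1, -1, 1, -1, -1, 1, 1, 1, 1, 1, 1, 1, 1, 1]),
  ([-2, 0, -2, -2, -2, 4, 2, 2, -2, 2, 2, -2, 0, -2, 2, 0, 0, 0, 0, 0, 0, 0, 0, 0],
   [3, -1, 1, 1, 1, -1, -1, -1, 1, -1, -1, 1, 1, 1, -1, 1, 1, 1, 1, 1, 1, 1, 1, 1]),
  ([-2, 0, -2, -2, 2, 0, -2, -2, 2, 2, 2, 2, 0, -2, -2, 0, 4, 0, 0, 0, 0, 0, 0, 0],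
   [3, -1, 1, 1, -1, 1, 1, 1, -1, -1, -1, -1, 1, 1, 1, 1, -1, 1, 1, 1, 1, 1, 1, 1]),
  ([-2, 0, -2, -2, 2, 0, 2, 2, -2, -2, -2, 2, 0, 2, -2, 0, 0, 0, 4, 0, 0, 0, 0, 0],
   [3, -1, 1, 1, -1, 1, -1, -1, 1, 1, 1, -1, 1, -1, 1, 1, 1, 1, -1, 1, 1, 1, 1, 1]),
  ([-2, 0, -2, 2, -2, 0, -2, 2, 2, -2, -2, 2, 0, -2, 2, 0, 0, 0, 0, 0, 0, 4, 0, 0],
   [3, -1, 1, -1, 1, 1, 1, -1, -1, 1, 1, -1, 1, 1, -1, 1, 1, 1, 1, 1, 1, -1, 1, 1]),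
  ([-2, 0, -2, 2, -2, 0, 2, -2, 2, -2, 2, -2, 0, 2, -2, 0, 0, 0, 0, 0, 0, 0, 0, 4],
   [3, -1, 1, -1, 1, 1, -1, 1, -1, 1, -1, 1, 1, -1, 1, 1, 1, 1, 1, 1, 1, 1, 1, -1]),
  ([-2, 0, -2, 2, 2, 0, -2, -2, -2, 2, -2, -2, 0, 2, 2, 4, 0, 0, 0, 0, 0, 0, 0, 0],
   [3, -1, 1, -1, -1, 1, 1, 1, 1, -1, 1, 1, 1, -1, -1, -1, 1, 1, 1, 1, 1, 1, 1, 1]),
  ([-2, 0, 2, -2, -2, 0, -2, -2, -2, -2, 2, 2, 0, 2, 2, 0, 0, 0, 0, 4, 0, 0, 0, 0],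
   [3, -1, -1, 1, 1, 1, 1, 1, 1, 1, -1, -1, 1, -1, -1, 1, 1, 1, 1, -1, 1, 1, 1, 1]),
  ([-2, 0, 2, -2, -2, 0, -2, 2, 2, 2, -2, -2, 0, 2, -2, 0, 0, 4, 0, 0, 0, 0, 0, 0],
   [3, -1, -1, 1, 1, 1, 1, -1, -1, -1, 1, 1, 1, -1, 1, 1, 1, -1, 1, 1, 1, 1, 1, 1]),
  ([-2, 0, 2, -2, 2, 0, 2, -2, 2, -2, -2, -2, 0, -2, 2, 0, 0, 0, 0, 0, 4, 0, 0, 0],
   [3, -1, -1, 1, -1, 1, -1, 1, -1, 1, 1, 1, 1, 1, -1, 1, 1, 1, 1, 1, -1, 1, 1, 1]),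
  ([-2, 0, 2, 2, -2, 0, 2, -2, -2, 2, -2, 2, 0, -2, -2, 0, 0, 0, 0, 0, 0, 0, 4, 0],
   [3, -1, -1, -1, 1, 1, -1, 1, 1, -1, 1, -1, 1, 1, 1, 1, 1, 1, 1, 1, 1, 1, -1, 1]),
  ([-2, 0, 2, 2, 2, 0, -2, 2, -2, -2, 2, -2, 4, -2, -2, 0, 0, 0, 0, 0, 0, 0, 0, 0],
   [3, -1, -1, -1, -1, 1, 1, -1, 1, 1, -1, 1, -1, 1, 1, 1, 1, 1, 1, 1, 1, 1, 1, 1]),
  ([0, -2, -4, 0, 0, -2, 0, 0, 0, 0, 0, 0, 2, 0, 0, -2, -2, 2, -2, 2, 2, -2, 2, -2],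
   [2, 0, 2, 0, 0, 2, 0, 0, 0, 0, 0, 0, 0, 0, 0, 2, 2, 0, 2, 0, 0, 2, 0, 2]),
  ([0, -2, 0, -4, 0, -2, 0, 0, 0, 0, 0, 0, 2, 0, 0, 2, -2, -2, -2, -2, -2, 2, 2, 2],
   [2, 0, 0, 2, 0, 2, 0, 0, 0, 0, 0, 0, 0, 0, 0, 0, 2, 2, 2, 2, 2, 0, 0, 0]),
  ([0, -2, 0, 0, -4, -2, 0, 0, 0, 0, 0, 0, 2, 0, 0, 2, 2, -2, 2, -2, 2, -2, -2, -2],
   [2, 0, 0, 0, 2, 2, 0, 0, 0, 0, 0, 0, 0, 0, 0, 0, 0, 2, 0, 2, 0, 2, 2, 2]),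
  ([0, -2, 0, 0, 0, -2, 0, 0, -4, 0, 0, 0, -2, 0, 0, -2, 2, 2, -2, -2, 2, 2, -2, 2],
   [2, 0, 0, 0, 0, 2, 0, 0, 2, 0, 0, 0, 2, 0, 0, 2, 0, 0, 2, 2, 0, 0, 2, 0]),
  ([0, -2, 0, 0, 0, -2, 0, 0, 0, 0, 0, -4, -2, 0, 0, -2, 2, -2, 2, 2, -2, 2, 2, -2],
   [2, 0, 0, 0, 0, 2, 0, 0, 0, 0, 0, 2, 2, 0, 0, 2, 0, 2, 0, 0, 2, 0, 0, 2]),
  ([0, -2, 0, 0, 0, -2, 0, 0, 0, 0, 0, 0, -2, -4, 0, 2, -2, 2, 2, 2, -2, -2, -2, 2],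
   [2, 0, 0, 0, 0, 2, 0, 0, 0, 0, 0, 0, 2, 2, 0, 0, 2, 0, 0, 0, 2, 2, 2, 0]),
  ([0, -2, 0, 0, 0, 2, -4, 0, 0, 0, 0, 0, -2, 0, 0, -2, -2, -2, 2, -2, 2, -2, 2, 2],
   [2, 0, 0, 0, 0, 0, 2, 0, 0, 0, 0, 0, 2, 0, 0, 2, 2, 2, 0, 2, 0, 2, 0, 0]),
  ([0, -2, 0, 0, 0, 2, 0, -4, 0, 0, 0, 0, 2, 0, 0, -2, -2, 2, 2, -2, -2, 2, -2, -2],
   [2, 0, 0, 0, 0, 0, 0, 2, 0, 0, 0, 0, 0, 0, 0, 2, 2, 0, 0, 2, 2, 0, 2, 2]),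
  ([0, -2, 0, 0, 0, 2, 0, 0, 0, -4, 0, 0, -2, 0, 0, 2, 2, 2, -2, -2, -2, -2, 2, -2],
   [2, 0, 0, 0, 0, 0, 0, 0, 0, 2, 0, 0, 2, 0, 0, 0, 0, 0, 2, 2, 2, 2, 0, 2]),
  ([0, -2, 0, 0, 0, 2, 0, 0, 0, 0, -4, 0, 2, 0, 0, -2, 2, -2, -2, 2, -2, -2, -2, 2],
   [2, 0, 0, 0, 0, 0, 0, 0, 0, 0, 2, 0, 0, 0, 0, 2, 0, 2, 2, 0, 2, 2, 2, 0]),
  ([0, -2, 0, 0, 0, 2, 0, 0, 0, 0, 0, 0, -2, 0, -4, 2, -2, -2, -2, 2, 2, 2, -2, -2],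
   [2, 0, 0, 0, 0, 0, 0, 0, 0, 0, 0, 0, 2, 0, 2, 0, 2, 2, 2, 0, 0, 0, 2, 2]),
  ([0, 2, 0, 0, 0, -2, 0, 0, 0, 0, 0, 0, 2, 0, 4, -2, 2, 2, 2, -2, -2, -2, 2, 2],
   [2, -2, 0, 0, 0, 2, 0, 0, 0, 0, 0, 0, 0, 0, -2, 2, 0, 0, 0, 2, 2, 2, 0, 0]),
  ([0, 2, 0, 0, 0, -2, 0, 0, 0, 0, 4, 0, -2, 0, 0, 2, -2, 2, 2, -2, 2, 2, 2, -2],
   [2, -2, 0, 0, 0, 2, 0, 0, 0, 0, -2, 0, 2, 0, 0, 0, 2, 0, 0, 2, 0, 0, 0, 2]),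
  ([0, 2, 0, 0, 0, -2, 0, 0, 0, 4, 0, 0, 2, 0, 0, -2, -2, -2, 2, 2, 2, 2, -2, 2],
   [2, -2, 0, 0, 0, 2, 0, 0, 0, -2, 0, 0, 0, 0, 0, 2, 2, 2, 0, 0, 0, 0, 2, 0]),
  ([0, 2, 0, 0, 0, -2, 0, 4, 0, 0, 0, 0, -2, 0, 0, 2, 2, -2, -2, 2, 2, -2, 2, 2],
   [2, -2, 0, 0, 0, 2, 0, -2, 0, 0, 0, 0, 2, 0, 0, 0, 0, 2, 2, 0, 0, 2, 0, 0]),
  ([0, 2, 0, 0, 0, -2, 4, 0, 0, 0, 0, 0, 2, 0, 0, 2, 2, 2, -2, 2, -2, 2, -2, -2],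
   [2, -2, 0, 0, 0, 2, -2, 0, 0, 0, 0, 0, 0, 0, 0, 0, 0, 0, 2, 0, 2, 0, 2, 2]),
  ([0, 2, 0, 0, 0, 2, 0, 0, 0, 0, 0, 0, 2, 4, 0, -2, 2, -2, -2, -2, 2, 2, 2, -2],
   [2, -2, 0, 0, 0, 0, 0, 0, 0, 0, 0, 0, 0, -2, 0, 2, 0, 2, 2, 2, 0, 0, 0, 2]),
  ([0, 2, 0, 0, 0, 2, 0, 0, 0, 0, 0, 4, 2, 0, 0, 2, -2, 2, -2, -2, 2, -2, -2, 2],
   [2, -2, 0, 0, 0, 0, 0, 0, 0, 0, 0, -2, 0, 0, 0, 0, 2, 0, 2, 2, 0, 2, 2, 0]),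
  ([0, 2, 0, 0, 0, 2, 0, 0, 4, 0, 0, 0, 2, 0, 0, 2, -2, -2, 2, 2, -2, -2, 2, -2],
   [2, -2, 0, 0, 0, 0, 0, 0, -2, 0, 0, 0, 0, 0, 0, 0, 2, 2, 0, 0, 2, 2, 0, 2]),
  ([0, 2, 0, 0, 4, 2, 0, 0, 0, 0, 0, 0, -2, 0, 0, -2, -2, 2, -2, 2, -2, 2, 2, 2],
   [2, -2, 0, 0, -2, 0, 0, 0, 0, 0, 0, 0, 2, 0, 0, 2, 2, 0, 2, 0, 2, 0, 0, 0]),
  ([0, 2, 0, 4, 0, 2, 0, 0, 0, 0, 0, 0, -2, 0, 0, -2, 2, 2, 2, 2, 2, -2, -2, -2],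
   [2, -2, 0, -2, 0, 0, 0, 0, 0, 0, 0, 0, 2, 0, 0, 2, 0, 0, 0, 0, 0, 2, 2, 2]),
  ([0, 2, 4, 0, 0, 2, 0, 0, 0, 0, 0, 0, -2, 0, 0, 2, 2, -2, 2, -2, -2, 2, -2, 2],
   [2, -2, -2, 0, 0, 0, 0, 0, 0, 0, 0, 0, 2, 0, 0, 0, 0, 2, 0, 2, 2, 0, 2, 0]),
  ([2, 0, -2, -2, -2, 0, 2, -2, 2, 2, -2, 2, -4, 2, 2, 0, 0, 0, 0, 0, 0, 0, 0, 0],
   [1, -1, 1, 1, 1, 1, -1, 1, -1, -1, 1, -1, 3, -1, -1, 1, 1, 1, 1, 1, 1, 1, 1, 1]),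
  ([2, 0, -2, -2, 2, 0, -2, 2, 2, -2, 2, -2, 0, 2, 2, 0, 0, 0, 0, 0, 0, 0, -4, 0],
   [1, -1, 1, 1, -1, 1, 1, -1, -1, 1, -1, 1, 1, -1, -1, 1, 1, 1, 1, 1, 1, 1, 3, 1]),
  ([2, 0, -2, 2, -2, 0, -2, 2, -2, 2, 2, 2, 0, 2, -2, 0, 0, 0, 0, 0, -4, 0, 0, 0],
   [1, -1, 1, -1, 1, 1, 1, -1, 1, -1, -1, -1, 1, -1, 1, 1, 1, 1, 1, 1, 3, 1, 1, 1]),
  ([2, 0, -2, 2, 2, 0, 2, -2, -2, -2, 2, 2, 0, -2, 2, 0, 0, -4, 0, 0, 0, 0, 0, 0],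
   [1, -1, 1, -1, -1, 1, -1, 1, 1, 1, -1, -1, 1, 1, -1, 1, 1, 3, 1, 1, 1, 1, 1, 1]),
  ([2, 0, -2, 2, 2, 0, 2, 2, 2, 2, -2, -2, 0, -2, -2, 0, 0, 0, 0, -4, 0, 0, 0, 0],
   [1, -1, 1, -1, -1, 1, -1, -1, -1, -1, 1, 1, 1, 1, 1, 1, 1, 1, 1, 3, 1, 1, 1, 1]),
  ([2, 0, 2, -2, -2, 0, 2, 2, 2, -2, 2, 2, 0, -2, -2, -4, 0, 0, 0, 0, 0, 0, 0, 0],
   [1, -1, -1, 1, 1, 1, -1, -1, -1, 1, -1, -1, 1, 1, 1, 3, 1, 1, 1, 1, 1, 1, 1, 1]),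
  ([2, 0, 2, -2, 2, 0, -2, 2, -2, 2, -2, 2, 0, -2, 2, 0, 0, 0, 0, 0, 0, 0, 0, -4],
   [1, -1, -1, 1, -1, 1, 1, -1, 1, -1, 1, -1, 1, 1, -1, 1, 1, 1, 1, 1, 1, 1, 1, 3]),
  ([2, 0, 2, -2, 2, 0, 2, -2, -2, 2, 2, -2, 0, 2, -2, 0, 0, 0, 0, 0, 0, -4, 0, 0],
   [1, -1, -1, 1, -1, 1, -1, 1, 1, -1, -1, 1, 1, -1, 1, 1, 1, 1, 1, 1, 1, 3, 1, 1]),
  ([2, 0, 2, 2, -2, 0, -2, -2, 2, 2, 2, -2, 0, -2, 2, 0, 0, 0, -4, 0, 0, 0, 0, 0],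
   [1, -1, -1, -1, 1, 1, 1, 1, -1, -1, -1, 1, 1, 1, -1, 1, 1, 1, 3, 1, 1, 1, 1, 1]),
  ([2, 0, 2, 2, -2, 0, 2, 2, -2, -2, -2, -2, 0, 2, 2, 0, -4, 0, 0, 0, 0, 0, 0, 0],
   [1, -1, -1, -1, 1, 1, -1, -1, 1, 1, 1, 1, 1, -1, -1, 1, 3, 1, 1, 1, 1, 1, 1, 1]),
  ([2, 0, 2, 2, 2, -4, -2, -2, 2, -2, -2, 2, 0, 2, -2, 0, 0, 0, 0, 0, 0, 0, 0, 0],
   [1, -1, -1, -1, -1, 3, 1, 1, -1, 1, 1, -1, 1, -1, 1, 1, 1, 1, 1, 1, 1, 1, 1, 1]),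
  ([2, 4, -2, -2, -2, 0, -2, -2, -2, -2, -2, -2, 0, -2, -2, 0, 0, 0, 0, 0, 0, 0, 0, 0],
   [1, -3, 1, 1, 1, 1, 1, 1, 1, 1, 1, 1, 1, 1, 1, 1, 1, 1, 1, 1, 1, 1, 1, 1]),
  ([4, -2, 0, 0, 0, 2, 0, 0, 0, 0, 0, 0, 2, 0, 0, 2, 2, 2, 2, 2, 2, 2, 2, 2],
   [0, 0, 0, 0, 0, 0, 0, 0, 0, 0, 0, 0, 0, 0, 0, 0, 0, 0, 0, 0, 0, 0, 0, 0])]


theorem wL448_props : LeechP (toVec wL448) ∧ sqNorm (toVec wL448) = 64 ∧ pw 4 (toVec wL448) = 448 := by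
  decide +kernel

theorem crossL448_ok : ∀ yz ∈ crossL448, InCross (toVec wL448) (toVec yz.1) (toVec yz.2) := by
  decide +kernel

theorem crossL448_nodup : (crossL448.map (fun yz => toVec yz.1)).Nodup := by decide +kernel

theorem crossL448_length : (crossL448.map (fun yz => toVec yz.1)).length = 48 := by decide +kernel

end Cfsg.Agent.Helper9.CrossMax
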