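import Mathlib
import Cfsg.Prelude.Def_Sporadic_a
import Cfsg.Prelude.Def_SporadicCombinatorics
import Cfsg.Agent.Helper9.CrossMax.Chk

/-!
The cross of the representative with sum of fourth powers 640.
-/

set_option autoImplicit false

namespace Cfsg.Agent.Helper9.CrossMax

open Cfsg
open Cfsg.Agent.Helper9.Golay
open Cfsg.Agent.Helper9.Leech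

/-- the representative with sum of fourth powers 640, as a list. -/
def wL640 : List ℤ := [2, 2, 2, 2, 2, 4, 4, 2, 0, 0, 2, 0, 2, 0, 0, 0, 0, 0, 0, 0, 0, 0, 0, 0]

/-- the cross of the representative with sum of fourth powers 640, with the halved differences. -/
def crossL640 : List (List ℤ × List ℤ) := [
  ([-2, -2, -2, -2, -2, -4, -4, -2, 0, 0, -2, 0, -2, 0, 0, 0, 0, 0, 0, 0, 0, 0, 0, 0],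
   [2, 2, 2, 2, 2, 4, 4, 2, 0, 0, 2, 0, 2, 0, 0, 0, 0, 0, 0, 0, 0, 0, 0, 0]),
  ([-2, -2, -2, -2, -2, 4, 4, -2, 0, 0, -2, 0, -2, 0, 0, 0, 0, 0, 0, 0, 0, 0, 0, 0],
   [2, 2, 2, 2, 2, 0, 0, 2, 0, 0, 2, 0, 2, 0, 0, 0, 0, 0, 0, 0, 0, 0, 0, 0]),
  ([-2, -2, -2, 2, 2, 0, 0, 2, 0, 0, 2, 0, -2, -4, 0, -4, 0, 0, 0, 0, 0, 0, 0, 0],
   [2, 2, 2, 0, 0, 2, 2, 0, 0, 0, 0, 0, 2, 2, 0, 2, 0, 0, 0, 0, 0, 0, 0, 0]),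
  ([-2, -2, -2, 2, 2, 0, 0, 2, 0, 0, 2, 0, -2, 4, 0, 4, 0, 0, 0, 0, 0, 0, 0, 0],
   [2, 2, 2, 0, 0, 2, 2, 0, 0, 0, 0, 0, 2, -2, 0, -2, 0, 0, 0, 0, 0, 0, 0, 0]),
  ([-2, -2, 2, -2, -2, 0, 0, 2, 0, 0, 2, 0, 2, 0, 0, 0, -4, 0, 0, 0, 0, -4, 0, 0],
   [2, 2, 0, 2, 2, 2, 2, 0, 0, 0, 0, 0, 0, 0, 0, 0, 2, 0, 0, 0, 0, 2, 0, 0]),
  ([-2, -2, 2, -2, -2, 0, 0, 2, 0, 0, 2, 0, 2, 0, 0, 0, 4, 0, 0, 0, 0, 4, 0, 0],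
   [2, 2, 0, 2, 2, 2, 2, 0, 0, 0, 0, 0, 0, 0, 0, 0, -2, 0, 0, 0, 0, -2, 0, 0]),
  ([-2, -2, 2, 2, 2, 0, 0, -2, 0, -4, -2, 0, 2, 0, -4, 0, 0, 0, 0, 0, 0, 0, 0, 0],
   [2, 2, 0, 0, 0, 2, 2, 2, 0, 2, 2, 0, 0, 0, 2, 0, 0, 0, 0, 0, 0, 0, 0, 0]),
  ([-2, -2, 2, 2, 2, 0, 0, -2, 0, 4, -2, 0, 2, 0, 4, 0, 0, 0, 0, 0, 0, 0, 0, 0],
   [2, 2, 0, 0, 0, 2, 2, 2, 0, -2, 2, 0, 0, 0, -2, 0, 0, 0, 0, 0, 0, 0, 0, 0]),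
  ([-2, 2, -2, -2, 2, 0, 0, -2, -4, 0, 2, 0, 2, 0, 0, 0, 0, 0, -4, 0, 0, 0, 0, 0],
   [2, 0, 2, 2, 0, 2, 2, 2, 2, 0, 0, 0, 0, 0, 0, 0, 0, 0, 2, 0, 0, 0, 0, 0]),
  ([-2, 2, -2, -2, 2, 0, 0, -2, 4, 0, 2, 0, 2, 0, 0, 0, 0, 0, 4, 0, 0, 0, 0, 0],
   [2, 0, 2, 2, 0, 2, 2, 2, -2, 0, 0, 0, 0, 0, 0, 0, 0, 0, -2, 0, 0, 0, 0, 0]),
  ([-2, 2, -2, 2, -2, 0, 0, 2, 0, 0, -2, -4, 2, 0, 0, 0, 0, 0, 0, 0, 0, 0, 0, -4],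
   [2, 0, 2, 0, 2, 2, 2, 0, 0, 0, 2, 2, 0, 0, 0, 0, 0, 0, 0, 0, 0, 0, 0, 2]),
  ([-2, 2, -2, 2, -2, 0, 0, 2, 0, 0, -2, 4, 2, 0, 0, 0, 0, 0, 0, 0, 0, 0, 0, 4],
   [2, 0, 2, 0, 2, 2, 2, 0, 0, 0, 2, -2, 0, 0, 0, 0, 0, 0, 0, 0, 0, 0, 0, -2]),
  ([-2, 2, 2, -2, 2, 0, 0, 2, 0, 0, -2, 0, -2, 0, 0, 0, 0, -4, 0, 0, 0, 0, -4, 0],
   [2, 0, 0, 2, 0, 2, 2, 0, 0, 0, 2, 0, 2, 0, 0, 0, 0, 2, 0, 0, 0, 0, 2, 0]),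
  ([-2, 2, 2, -2, 2, 0, 0, 2, 0, 0, -2, 0, -2, 0, 0, 0, 0, 4, 0, 0, 0, 0, 4, 0],
   [2, 0, 0, 2, 0, 2, 2, 0, 0, 0, 2, 0, 2, 0, 0, 0, 0, -2, 0, 0, 0, 0, -2, 0]),
  ([-2, 2, 2, 2, -2, 0, 0, -2, 0, 0, 2, 0, -2, 0, 0, 0, 0, 0, 0, -4, -4, 0, 0, 0],
   [2, 0, 0, 0, 2, 2, 2, 2, 0, 0, 0, 0, 2, 0, 0, 0, 0, 0, 0, 2, 2, 0, 0, 0]),
  ([-2, 2, 2, 2, -2, 0, 0, -2, 0, 0, 2, 0, -2, 0, 0, 0, 0, 0, 0, 4, 4, 0, 0, 0],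
   [2, 0, 0, 0, 2, 2, 2, 2, 0, 0, 0, 0, 2, 0, 0, 0, 0, 0, 0, -2, -2, 0, 0, 0]),
  ([0, 0, 0, 0, 0, -2, 2, 0, -2, -2, 0, -2, 0, 2, 2, -2, -2, 2, 2, -2, 2, 2, -2, 2],
   [1, 1, 1, 1, 1, 3, 1, 1, 1, 1, 1, 1, 1, -1, -1, 1, 1, -1, -1, 1, -1, -1, 1, -1]),
  ([0, 0, 0, 0, 0, -2, 2, 0, -2, -2, 0, 2, 0, -2, 2, 2, 2, -2, 2, -2, 2, -2, 2, -2],
   [1, 1, 1, 1, 1, 3, 1, 1, 1, 1, 1, -1, 1, 1, -1, -1, -1, 1, -1, 1, -1, 1, -1, 1]),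
  ([0, 0, 0, 0, 0, -2, 2, 0, -2, 2, 0, -2, 0, 2, -2, -2, 2, -2, 2, 2, -2, -2, 2, 2],
   [1, 1, 1, 1, 1, 3, 1, 1, 1, -1, 1, 1, 1, -1, 1, 1, -1, 1, -1, -1, 1, 1, -1, -1]),
  ([0, 0, 0, 0, 0, -2, 2, 0, -2, 2, 0, 2, 0, -2, -2, 2, -2, 2, 2, 2, -2, 2, -2, -2],
   [1, 1, 1, 1, 1, 3, 1, 1, 1, -1, 1, -1, 1, 1, 1, -1, 1, -1, -1, -1, 1, -1, 1, 1]),
  ([0, 0, 0, 0, 0, -2, 2, 0, 2, -2, 0, -2, 0, -2, 2, 2, 2, 2, -2, 2, -2, -2, -2, 2],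
   [1, 1, 1, 1, 1, 3, 1, 1, -1, 1, 1, 1, 1, 1, -1, -1, -1, -1, 1, -1, 1, 1, 1, -1]),
  ([0, 0, 0, 0, 0, -2, 2, 0, 2, -2, 0, 2, 0, 2, 2, -2, -2, -2, -2, 2, -2, 2, 2, -2],
   [1, 1, 1, 1, 1, 3, 1, 1, -1, 1, 1, -1, 1, -1, -1, 1, 1, 1, 1, -1, 1, -1, -1, 1]),
  ([0, 0, 0, 0, 0, -2, 2, 0, 2, 2, 0, -2, 0, -2, -2, 2, -2, -2, -2, -2, 2, 2, 2, 2],
   [1, 1, 1, 1, 1, 3, 1, 1, -1, -1, 1, 1, 1, 1, 1, -1, 1, 1, 1, 1, -1, -1, -1, -1]),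
  ([0, 0, 0, 0, 0, -2, 2, 0, 2, 2, 0, 2, 0, 2, -2, -2, 2, 2, -2, -2, 2, -2, -2, -2],
   [1, 1, 1, 1, 1, 3, 1, 1, -1, -1, 1, -1, 1, -1, 1, 1, -1, -1, 1, 1, -1, 1, 1, 1]),
  ([0, 0, 0, 0, 0, 2, -2, 0, -2, -2, 0, -2, 0, -2, 2, 2, -2, -2, 2, 2, -2, 2, 2, 2],
   [1, 1, 1, 1, 1, 1, 3, 1, 1, 1, 1, 1, 1, 1, -1, -1, 1, 1, -1, -1, 1, -1, -1, -1]),
  ([0, 0, 0, 0, 0, 2, -2, 0, -2, -2, 0, 2, 0, 2, 2, -2, 2, 2, 2, 2, -2, -2, -2, -2],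
   [1, 1, 1, 1, 1, 1, 3, 1, 1, 1, 1, -1, 1, -1, -1, 1, -1, -1, -1, -1, 1, 1, 1, 1]),
  ([0, 0, 0, 0, 0, 2, -2, 0, -2, 2, 0, -2, 0, -2, -2, 2, 2, 2, 2, -2, 2, -2, -2, 2],
   [1, 1, 1, 1, 1, 1, 3, 1, 1, -1, 1, 1, 1, 1, 1, -1, -1, -1, -1, 1, -1, 1, 1, -1]),
  ([0, 0, 0, 0, 0, 2, -2, 0, -2, 2, 0, 2, 0, 2, -2, -2, -2, -2, 2, -2, 2, 2, 2, -2],
   [1, 1, 1, 1, 1, 1, 3, 1, 1, -1, 1, -1, 1, -1, 1, 1, 1, 1, -1, 1, -1, -1, -1, 1]),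
  ([0, 0, 0, 0, 0, 2, -2, 0, 2, -2, 0, -2, 0, 2, 2, -2, 2, -2, -2, -2, 2, -2, 2, 2],
   [1, 1, 1, 1, 1, 1, 3, 1, -1, 1, 1, 1, 1, -1, -1, 1, -1, 1, 1, 1, -1, 1, -1, -1]),
  ([0, 0, 0, 0, 0, 2, -2, 0, 2, -2, 0, 2, 0, -2, 2, 2, -2, 2, -2, -2, 2, 2, -2, -2],
   [1, 1, 1, 1, 1, 1, 3, 1, -1, 1, 1, -1, 1, 1, -1, -1, 1, -1, 1, 1, -1, -1, 1, 1]),
  ([0, 0, 0, 0, 0, 2, -2, 0, 2, 2, 0, -2, 0, 2, -2, -2, -2, 2, -2, 2, -2, 2, -2, 2],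
   [1, 1, 1, 1, 1, 1, 3, 1, -1, -1, 1, 1, 1, -1, 1, 1, 1, -1, 1, -1, 1, -1, 1, -1]),
  ([0, 0, 0, 0, 0, 2, -2, 0, 2, 2, 0, 2, 0, -2, -2, 2, 2, -2, -2, 2, -2, -2, 2, -2],
   [1, 1, 1, 1, 1, 1, 3, 1, -1, -1, 1, -1, 1, 1, 1, -1, -1, 1, 1, -1, 1, 1, -1, 1]),
  ([2, -2, -2, -2, 2, 0, 0, 2, 0, 0, -2, 0, 2, 0, 0, 0, 0, 0, 0, -4, -4, 0, 0, 0],
   [0, 2, 2, 2, 0, 2, 2, 0, 0, 0, 2, 0, 0, 0, 0, 0, 0, 0, 0, 2, 2, 0, 0, 0]),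
  ([2, -2, -2, -2, 2, 0, 0, 2, 0, 0, -2, 0, 2, 0, 0, 0, 0, 0, 0, 4, 4, 0, 0, 0],
   [0, 2, 2, 2, 0, 2, 2, 0, 0, 0, 2, 0, 0, 0, 0, 0, 0, 0, 0, -2, -2, 0, 0, 0]),
  ([2, -2, -2, 2, -2, 0, 0, -2, 0, 0, 2, 0, 2, 0, 0, 0, 0, -4, 0, 0, 0, 0, -4, 0],
   [0, 2, 2, 0, 2, 2, 2, 2, 0, 0, 0, 0, 0, 0, 0, 0, 0, 2, 0, 0, 0, 0, 2, 0]),
  ([2, -2, -2, 2, -2, 0, 0, -2, 0, 0, 2, 0, 2, 0, 0, 0, 0, 4, 0, 0, 0, 0, 4, 0],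
   [0, 2, 2, 0, 2, 2, 2, 2, 0, 0, 0, 0, 0, 0, 0, 0, 0, -2, 0, 0, 0, 0, -2, 0]),
  ([2, -2, 2, -2, 2, 0, 0, -2, 0, 0, 2, -4, -2, 0, 0, 0, 0, 0, 0, 0, 0, 0, 0, -4],
   [0, 2, 0, 2, 0, 2, 2, 2, 0, 0, 0, 2, 2, 0, 0, 0, 0, 0, 0, 0, 0, 0, 0, 2]),
  ([2, -2, 2, -2, 2, 0, 0, -2, 0, 0, 2, 4, -2, 0, 0, 0, 0, 0, 0, 0, 0, 0, 0, 4],
   [0, 2, 0, 2, 0, 2, 2, 2, 0, 0, 0, -2, 2, 0, 0, 0, 0, 0, 0, 0, 0, 0, 0, -2]),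
  ([2, -2, 2, 2, -2, 0, 0, 2, -4, 0, -2, 0, -2, 0, 0, 0, 0, 0, -4, 0, 0, 0, 0, 0],
   [0, 2, 0, 0, 2, 2, 2, 0, 2, 0, 2, 0, 2, 0, 0, 0, 0, 0, 2, 0, 0, 0, 0, 0]),
  ([2, -2, 2, 2, -2, 0, 0, 2, 4, 0, -2, 0, -2, 0, 0, 0, 0, 0, 4, 0, 0, 0, 0, 0],
   [0, 2, 0, 0, 2, 2, 2, 0, -2, 0, 2, 0, 2, 0, 0, 0, 0, 0, -2, 0, 0, 0, 0, 0]),
  ([2, 2, -2, -2, -2, 0, 0, 2, 0, -4, 2, 0, -2, 0, -4, 0, 0, 0, 0, 0, 0, 0, 0, 0],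
   [0, 0, 2, 2, 2, 2, 2, 0, 0, 2, 0, 0, 2, 0, 2, 0, 0, 0, 0, 0, 0, 0, 0, 0]),
  ([2, 2, -2, -2, -2, 0, 0, 2, 0, 4, 2, 0, -2, 0, 4, 0, 0, 0, 0, 0, 0, 0, 0, 0],
   [0, 0, 2, 2, 2, 2, 2, 0, 0, -2, 0, 0, 2, 0, -2, 0, 0, 0, 0, 0, 0, 0, 0, 0]),
  ([2, 2, -2, 2, 2, 0, 0, -2, 0, 0, -2, 0, -2, 0, 0, 0, -4, 0, 0, 0, 0, -4, 0, 0],
   [0, 0, 2, 0, 0, 2, 2, 2, 0, 0, 2, 0, 2, 0, 0, 0, 2, 0, 0, 0, 0, 2, 0, 0]),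
  ([2, 2, -2, 2, 2, 0, 0, -2, 0, 0, -2, 0, -2, 0, 0, 0, 4, 0, 0, 0, 0, 4, 0, 0],
   [0, 0, 2, 0, 0, 2, 2, 2, 0, 0, 2, 0, 2, 0, 0, 0, -2, 0, 0, 0, 0, -2, 0, 0]),
  ([2, 2, 2, -2, -2, 0, 0, -2, 0, 0, -2, 0, 2, -4, 0, -4, 0, 0, 0, 0, 0, 0, 0, 0],
   [0, 0, 0, 2, 2, 2, 2, 2, 0, 0, 2, 0, 0, 2, 0, 2, 0, 0, 0, 0, 0, 0, 0, 0]),
  ([2, 2, 2, -2, -2, 0, 0, -2, 0, 0, -2, 0, 2, 4, 0, 4, 0, 0, 0, 0, 0, 0, 0, 0],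
   [0, 0, 0, 2, 2, 2, 2, 2, 0, 0, 2, 0, 0, -2, 0, -2, 0, 0, 0, 0, 0, 0, 0, 0]),
  ([2, 2, 2, 2, 2, -4, -4, 2, 0, 0, 2, 0, 2, 0, 0, 0, 0, 0, 0, 0, 0, 0, 0, 0],
   [0, 0, 0, 0, 0, 4, 4, 0, 0, 0, 0, 0, 0, 0, 0, 0, 0, 0, 0, 0, 0, 0, 0, 0]),
  ([2, 2, 2, 2, 2, 4, 4, 2, 0, 0, 2, 0, 2, 0, 0, 0, 0, 0, 0, 0, 0, 0, 0, 0],
   [0, 0, 0, 0, 0, 0, 0, 0, 0, 0, 0, 0, 0, 0, 0, 0, 0, 0, 0, 0, 0, 0, 0, 0])]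


theorem wL640_props : LeechP (toVec wL640) ∧ sqNorm (toVec wL640) = 64 ∧ pw 4 (toVec wL640) = 640 := by
  decide +kernel

theorem crossL640_ok : ∀ yz ∈ crossL640, InCross (toVec wL640) (toVec yz.1) (toVec yz.2) := by
  decide +kernel

theorem crossL640_nodup : (crossL640.map (fun yz => toVec yz.1)).Nodup := by decide +kernel

theorem crossL640_length : (crossL640.map (fun yz => toVec yz.1)).length = 48 := by decide +kernel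

end Cfsg.Agent.Helper9.CrossMax
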