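import Mathlib
import Cfsg.Prelude.Def_Sporadic_a
import Cfsg.Prelude.Def_SporadicCombinatorics
import Cfsg.Agent.Helper9.CrossMax.Chk

/-!
The cross of the representative with sum of fourth powers 808.
-/

set_option autoImplicit false

namespace Cfsg.Agent.Helper9.CrossMax

open Cfsg
open Cfsg.Agent.Helper9.Golay
open Cfsg.Agent.Helper9.Leech

/-- the representative with sum of fourth powers 808, as a list. -/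
def wL808 : List ℤ := [5, -3, -3, 1, 1, 1, 1, 1, 1, 1, 1, 1, 1, 1, 1, 1, 1, 1, 1, 1, 1, 1, 1, 1]

/-- the cross of the representative with sum of fourth powers 808, with the halved differences. -/
def crossL808 : List (List ℤ × List ℤ) := [
  ([-5, 3, 3, -1, -1, -1, -1, -1, -1, -1, -1, -1, -1, -1, -1, -1, -1, -1, -1, -1, -1, -1, -1, -1],
   [5, -3, -3, 1, 1, 1, 1, 1, 1, 1, 1, 1, 1, 1, 1, 1, 1, 1, 1, 1, 1, 1, 1, 1]),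
  ([-3, -3, 5, 1, 1, 1, 1, 1, 1, 1, 1, 1, 1, 1, 1, 1, 1, 1, 1, 1, 1, 1, 1, 1],
   [4, 0, -4, 0, 0, 0, 0, 0, 0, 0, 0, 0, 0, 0, 0, 0, 0, 0, 0, 0, 0, 0, 0, 0]),
  ([-3, 5, -3, 1, 1, 1, 1, 1, 1, 1, 1, 1, 1, 1, 1, 1, 1, 1, 1, 1, 1, 1, 1, 1],
   [4, -4, 0, 0, 0, 0, 0, 0, 0, 0, 0, 0, 0, 0, 0, 0, 0, 0, 0, 0, 0, 0, 0, 0]),
  ([-1, -1, -1, -1, -1, -1, -1, -1, -1, -1, -1, -1, 3, -1, -1, -1, -1, 3, -1, 3, 3, -1, 3, -1],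
   [3, -1, -1, 1, 1, 1, 1, 1, 1, 1, 1, 1, -1, 1, 1, 1, 1, -1, 1, -1, -1, 1, -1, 1]),
  ([-1, -1, -1, -1, -1, -1, -1, -1, -1, -1, 3, 3, -1, 3, 3, -1, -1, -1, -1, 3, -1, -1, -1, -1],
   [3, -1, -1, 1, 1, 1, 1, 1, 1, 1, -1, -1, 1, -1, -1, 1, 1, 1, 1, -1, 1, 1, 1, 1]),
  ([-1, -1, -1, -1, -1, -1, -1, -1, -1, 3, -1, -1, 3, -1, 3, -1, 3, -1, -1, -1, -1, 3, -1, -1],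
   [3, -1, -1, 1, 1, 1, 1, 1, 1, -1, 1, 1, -1, 1, -1, 1, -1, 1, 1, 1, 1, -1, 1, 1]),
  ([-1, -1, -1, -1, -1, -1, -1, -1, -1, 3, 3, -1, -1, -1, -1, 3, -1, -1, -1, -1, 3, -1, -1, 3],
   [3, -1, -1, 1, 1, 1, 1, 1, 1, -1, -1, 1, 1, 1, 1, -1, 1, 1, 1, 1, -1, 1, 1, -1]),
  ([-1, -1, -1, -1, -1, -1, -1, -1, 3, -1, -1, 3, 3, -1, -1, -1, -1, -1, 3, -1, -1, -1, -1, 3],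
   [3, -1, -1, 1, 1, 1, 1, 1, -1, 1, 1, -1, -1, 1, 1, 1, 1, 1, -1, 1, 1, 1, 1, -1]),
  ([-1, -1, -1, -1, -1, -1, -1, 3, -1, -1, -1, -1, -1, -1, 3, 3, -1, -1, 3, -1, -1, -1, 3, -1],
   [3, -1, -1, 1, 1, 1, 1, -1, 1, 1, 1, 1, 1, 1, -1, -1, 1, 1, -1, 1, 1, 1, -1, 1]),
  ([-1, -1, -1, -1, -1, -1, -1, 3, 3, 3, -1, -1, -1, 3, -1, -1, -1, 3, -1, -1, -1, -1, -1, -1],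
   [3, -1, -1, 1, 1, 1, 1, -1, -1, -1, 1, 1, 1, -1, 1, 1, 1, -1, 1, 1, 1, 1, 1, 1]),
  ([-1, -1, -1, -1, -1, -1, 3, -1, -1, -1, 3, -1, -1, -1, -1, -1, 3, 3, 3, -1, -1, -1, -1, -1],
   [3, -1, -1, 1, 1, 1, -1, 1, 1, 1, -1, 1, 1, 1, 1, 1, -1, -1, -1, 1, 1, 1, 1, 1]),
  ([-1, -1, -1, -1, -1, -1, 3, 3, -1, -1, -1, -1, -1, -1, -1, -1, -1, -1, -1, 3, -1, 3, -1, 3],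
   [3, -1, -1, 1, 1, 1, -1, -1, 1, 1, 1, 1, 1, 1, 1, 1, 1, 1, 1, -1, 1, -1, 1, -1]),
  ([-1, -1, -1, -1, -1, 3, -1, -1, 3, -1, 3, -1, -1, -1, -1, -1, -1, -1, -1, -1, -1, 3, 3, -1],
   [3, -1, -1, 1, 1, -1, 1, 1, -1, 1, -1, 1, 1, 1, 1, 1, 1, 1, 1, 1, 1, -1, -1, 1]),
  ([-1, -1, -1, -1, -1, 3, -1, 3, -1, -1, -1, 3, -1, -1, -1, -1, 3, -1, -1, -1, 3, -1, -1, -1],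
   [3, -1, -1, 1, 1, -1, 1, -1, 1, 1, 1, -1, 1, 1, 1, 1, -1, 1, 1, 1, -1, 1, 1, 1]),
  ([-1, -1, -1, -1, -1, 3, 3, -1, -1, -1, -1, -1, 3, 3, -1, 3, -1, -1, -1, -1, -1, -1, -1, -1],
   [3, -1, -1, 1, 1, -1, -1, 1, 1, 1, 1, 1, -1, -1, 1, -1, 1, 1, 1, 1, 1, 1, 1, 1]),
  ([-1, -1, -1, -1, 3, -1, -1, -1, -1, -1, -1, -1, -1, 3, -1, -1, 3, -1, -1, -1, -1, -1, 3, 3],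
   [3, -1, -1, 1, -1, 1, 1, 1, 1, 1, 1, 1, 1, -1, 1, 1, -1, 1, 1, 1, 1, 1, -1, -1]),
  ([-1, -1, -1, -1, 3, -1, -1, -1, -1, -1, -1, 3, -1, -1, -1, 3, -1, 3, -1, -1, -1, 3, -1, -1],
   [3, -1, -1, 1, -1, 1, 1, 1, 1, 1, 1, -1, 1, 1, 1, -1, 1, -1, 1, 1, 1, -1, 1, 1]),
  ([-1, -1, -1, -1, 3, -1, 3, -1, 3, -1, -1, -1, -1, -1, 3, -1, -1, -1, -1, -1, 3, -1, -1, -1],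
   [3, -1, -1, 1, -1, 1, -1, 1, -1, 1, 1, 1, 1, 1, -1, 1, 1, 1, 1, 1, -1, 1, 1, 1]),
  ([-1, -1, -1, -1, 3, 3, -1, -1, -1, 3, -1, -1, -1, -1, -1, -1, -1, -1, 3, 3, -1, -1, -1, -1],
   [3, -1, -1, 1, -1, -1, 1, 1, 1, -1, 1, 1, 1, 1, 1, 1, 1, 1, -1, -1, 1, 1, 1, 1]),
  ([-1, -1, -1, 3, -1, -1, -1, -1, -1, -1, -1, -1, -1, 3, -1, -1, -1, -1, 3, -1, 3, 3, -1, -1],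
   [3, -1, -1, -1, 1, 1, 1, 1, 1, 1, 1, 1, 1, -1, 1, 1, 1, 1, -1, 1, -1, -1, 1, 1]),
  ([-1, -1, -1, 3, -1, -1, -1, -1, 3, -1, -1, -1, -1, -1, -1, 3, 3, -1, -1, 3, -1, -1, -1, -1],
   [3, -1, -1, -1, 1, 1, 1, 1, -1, 1, 1, 1, 1, 1, 1, -1, -1, 1, 1, -1, 1, 1, 1, 1]),
  ([-1, -1, -1, 3, -1, -1, 3, -1, -1, 3, -1, 3, -1, -1, -1, -1, -1, -1, -1, -1, -1, -1, 3, -1],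
   [3, -1, -1, -1, 1, 1, -1, 1, 1, -1, 1, -1, 1, 1, 1, 1, 1, 1, 1, 1, 1, 1, -1, 1]),
  ([-1, -1, -1, 3, -1, 3, -1, -1, -1, -1, -1, -1, -1, -1, 3, -1, -1, 3, -1, -1, -1, -1, -1, 3],
   [3, -1, -1, -1, 1, -1, 1, 1, 1, 1, 1, 1, 1, 1, -1, 1, 1, -1, 1, 1, 1, 1, 1, -1]),
  ([-1, -1, -1, 3, 3, -1, -1, 3, -1, -1, 3, -1, 3, -1, -1, -1, -1, -1, -1, -1, -1, -1, -1, -1],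
   [3, -1, -1, -1, -1, 1, 1, -1, 1, 1, -1, 1, -1, 1, 1, 1, 1, 1, 1, 1, 1, 1, 1, 1]),
  ([1, 1, 1, -3, -3, 1, 1, -3, 1, 1, -3, 1, -3, 1, 1, 1, 1, 1, 1, 1, 1, 1, 1, 1],
   [2, -2, -2, 2, 2, 0, 0, 2, 0, 0, 2, 0, 2, 0, 0, 0, 0, 0, 0, 0, 0, 0, 0, 0]),
  ([1, 1, 1, -3, 1, -3, 1, 1, 1, 1, 1, 1, 1, 1, -3, 1, 1, -3, 1, 1, 1, 1, 1, -3],
   [2, -2, -2, 2, 0, 2, 0, 0, 0, 0, 0, 0, 0, 0, 2, 0, 0, 2, 0, 0, 0, 0, 0, 2]),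
  ([1, 1, 1, -3, 1, 1, -3, 1, 1, -3, 1, -3, 1, 1, 1, 1, 1, 1, 1, 1, 1, 1, -3, 1],
   [2, -2, -2, 2, 0, 0, 2, 0, 0, 2, 0, 2, 0, 0, 0, 0, 0, 0, 0, 0, 0, 0, 2, 0]),
  ([1, 1, 1, -3, 1, 1, 1, 1, -3, 1, 1, 1, 1, 1, 1, -3, -3, 1, 1, -3, 1, 1, 1, 1],
   [2, -2, -2, 2, 0, 0, 0, 0, 2, 0, 0, 0, 0, 0, 0, 2, 2, 0, 0, 2, 0, 0, 0, 0]),
  ([1, 1, 1, -3, 1, 1, 1, 1, 1, 1, 1, 1, 1, -3, 1, 1, 1, 1, -3, 1, -3, -3, 1, 1],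
   [2, -2, -2, 2, 0, 0, 0, 0, 0, 0, 0, 0, 0, 2, 0, 0, 0, 0, 2, 0, 2, 2, 0, 0]),
  ([1, 1, 1, 1, -3, -3, 1, 1, 1, -3, 1, 1, 1, 1, 1, 1, 1, 1, -3, -3, 1, 1, 1, 1],
   [2, -2, -2, 0, 2, 2, 0, 0, 0, 2, 0, 0, 0, 0, 0, 0, 0, 0, 2, 2, 0, 0, 0, 0]),
  ([1, 1, 1, 1, -3, 1, -3, 1, -3, 1, 1, 1, 1, 1, -3, 1, 1, 1, 1, 1, -3, 1, 1, 1],
   [2, -2, -2, 0, 2, 0, 2, 0, 2, 0, 0, 0, 0, 0, 2, 0, 0, 0, 0, 0, 2, 0, 0, 0]),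
  ([1, 1, 1, 1, -3, 1, 1, 1, 1, 1, 1, -3, 1, 1, 1, -3, 1, -3, 1, 1, 1, -3, 1, 1],
   [2, -2, -2, 0, 2, 0, 0, 0, 0, 0, 0, 2, 0, 0, 0, 2, 0, 2, 0, 0, 0, 2, 0, 0]),
  ([1, 1, 1, 1, -3, 1, 1, 1, 1, 1, 1, 1, 1, -3, 1, 1, -3, 1, 1, 1, 1, 1, -3, -3],
   [2, -2, -2, 0, 2, 0, 0, 0, 0, 0, 0, 0, 0, 2, 0, 0, 2, 0, 0, 0, 0, 0, 2, 2]),
  ([1, 1, 1, 1, 1, -3, -3, 1, 1, 1, 1, 1, -3, -3, 1, -3, 1, 1, 1, 1, 1, 1, 1, 1],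
   [2, -2, -2, 0, 0, 2, 2, 0, 0, 0, 0, 0, 2, 2, 0, 2, 0, 0, 0, 0, 0, 0, 0, 0]),
  ([1, 1, 1, 1, 1, -3, 1, -3, 1, 1, 1, -3, 1, 1, 1, 1, -3, 1, 1, 1, -3, 1, 1, 1],
   [2, -2, -2, 0, 0, 2, 0, 2, 0, 0, 0, 2, 0, 0, 0, 0, 2, 0, 0, 0, 2, 0, 0, 0]),
  ([1, 1, 1, 1, 1, -3, 1, 1, -3, 1, -3, 1, 1, 1, 1, 1, 1, 1, 1, 1, 1, -3, -3, 1],
   [2, -2, -2, 0, 0, 2, 0, 0, 2, 0, 2, 0, 0, 0, 0, 0, 0, 0, 0, 0, 0, 2, 2, 0]),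
  ([1, 1, 1, 1, 1, 1, -3, -3, 1, 1, 1, 1, 1, 1, 1, 1, 1, 1, 1, -3, 1, -3, 1, -3],
   [2, -2, -2, 0, 0, 0, 2, 2, 0, 0, 0, 0, 0, 0, 0, 0, 0, 0, 0, 2, 0, 2, 0, 2]),
  ([1, 1, 1, 1, 1, 1, -3, 1, 1, 1, -3, 1, 1, 1, 1, 1, -3, -3, -3, 1, 1, 1, 1, 1],
   [2, -2, -2, 0, 0, 0, 2, 0, 0, 0, 2, 0, 0, 0, 0, 0, 2, 2, 2, 0, 0, 0, 0, 0]),
  ([1, 1, 1, 1, 1, 1, 1, -3, -3, -3, 1, 1, 1, -3, 1, 1, 1, -3, 1, 1, 1, 1, 1, 1],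
   [2, -2, -2, 0, 0, 0, 0, 2, 2, 2, 0, 0, 0, 2, 0, 0, 0, 2, 0, 0, 0, 0, 0, 0]),
  ([1, 1, 1, 1, 1, 1, 1, -3, 1, 1, 1, 1, 1, 1, -3, -3, 1, 1, -3, 1, 1, 1, -3, 1],
   [2, -2, -2, 0, 0, 0, 0, 2, 0, 0, 0, 0, 0, 0, 2, 2, 0, 0, 2, 0, 0, 0, 2, 0]),
  ([1, 1, 1, 1, 1, 1, 1, 1, -3, 1, 1, -3, -3, 1, 1, 1, 1, 1, -3, 1, 1, 1, 1, -3],
   [2, -2, -2, 0, 0, 0, 0, 0, 2, 0, 0, 2, 2, 0, 0, 0, 0, 0, 2, 0, 0, 0, 0, 2]),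
  ([1, 1, 1, 1, 1, 1, 1, 1, 1, -3, -3, 1, 1, 1, 1, -3, 1, 1, 1, 1, -3, 1, 1, -3],
   [2, -2, -2, 0, 0, 0, 0, 0, 0, 2, 2, 0, 0, 0, 0, 2, 0, 0, 0, 0, 2, 0, 0, 2]),
  ([1, 1, 1, 1, 1, 1, 1, 1, 1, -3, 1, 1, -3, 1, -3, 1, -3, 1, 1, 1, 1, -3, 1, 1],
   [2, -2, -2, 0, 0, 0, 0, 0, 0, 2, 0, 0, 2, 0, 2, 0, 2, 0, 0, 0, 0, 2, 0, 0]),
  ([1, 1, 1, 1, 1, 1, 1, 1, 1, 1, -3, -3, 1, -3, -3, 1, 1, 1, 1, -3, 1, 1, 1, 1],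
   [2, -2, -2, 0, 0, 0, 0, 0, 0, 0, 2, 2, 0, 2, 2, 0, 0, 0, 0, 2, 0, 0, 0, 0]),
  ([1, 1, 1, 1, 1, 1, 1, 1, 1, 1, 1, 1, -3, 1, 1, 1, 1, -3, 1, -3, -3, 1, -3, 1],
   [2, -2, -2, 0, 0, 0, 0, 0, 0, 0, 0, 0, 2, 0, 0, 0, 0, 2, 0, 2, 2, 0, 2, 0]),
  ([3, -5, 3, -1, -1, -1, -1, -1, -1, -1, -1, -1, -1, -1, -1, -1, -1, -1, -1, -1, -1, -1, -1, -1],
   [1, 1, -3, 1, 1, 1, 1, 1, 1, 1, 1, 1, 1, 1, 1, 1, 1, 1, 1, 1, 1, 1, 1, 1]),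
  ([3, 3, -5, -1, -1, -1, -1, -1, -1, -1, -1, -1, -1, -1, -1, -1, -1, -1, -1, -1, -1, -1, -1, -1],
   [1, -3, 1, 1, 1, 1, 1, 1, 1, 1, 1, 1, 1, 1, 1, 1, 1, 1, 1, 1, 1, 1, 1, 1]),
  ([5, -3, -3, 1, 1, 1, 1, 1, 1, 1, 1, 1, 1, 1, 1, 1, 1, 1, 1, 1, 1, 1, 1, 1],
   [0, 0, 0, 0, 0, 0, 0, 0, 0, 0, 0, 0, 0, 0, 0, 0, 0, 0, 0, 0, 0, 0, 0, 0])]

theorem wL808_props : LeechP (toVec wL808) ∧ sqNorm (toVec wL808) = 64 ∧ pw 4 (toVec wL808) = 808 := by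
  decide +kernel

theorem crossL808_ok : ∀ yz ∈ crossL808, InCross (toVec wL808) (toVec yz.1) (toVec yz.2) := by
  decide +kernel

theorem crossL808_nodup : (crossL808.map (fun yz => toVec yz.1)).Nodup := by decide +kernel

theorem crossL808_length : (crossL808.map (fun yz => toVec yz.1)).length = 48 := by decide +kernel

end Cfsg.Agent.Helper9.CrossMax
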