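import Mathlib
import Cfsg.Prelude.Def_Sporadic_a
import Cfsg.Prelude.Def_SporadicCombinatorics
import Cfsg.Agent.Helper9.CrossMax.Basic
import Cfsg.Agent.Helper9.CrossMax.MTrans2
import Cfsg.Agent.Helper9.CrossMax.Rep1024
import Cfsg.Agent.Helper9.CrossMax.Rep1408
import Cfsg.Agent.Helper9.CrossMax.Rep640
import Cfsg.Agent.Helper9.CrossMax.Rep448
import Cfsg.Agent.Helper9.CrossMax.Rep808

/-!
The crosses of the five representatives: the numbers of their vectors with a given sum of fourth
powers.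
-/

set_option autoImplicit false

namespace Cfsg.Agent.Helper9.CrossMax

open Cfsg
open Cfsg.Agent.Helper9.Golay
open Cfsg.Agent.Helper9.Leech

theorem toVec_wL1024 : toVec wL1024 = w1024 := by
  funext p
  revert p
  decide +kernel

theorem toVec_wL1408 : toVec wL1408 = w1408 := by
  funext p
  revert p
  decide +kernel

theorem toVec_wL640 : toVec wL640 = w640 := by
  funext p
  revert p
  decide +kernel

theorem toVec_wL448 : toVec wL448 = w448 := by
  funext p
  revert p
  decide +kernel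

theorem toVec_wL808 : toVec wL808 = w808 := by
  funext p
  revert p
  decide +kernel

/-- the number of the vectors with a given sum of fourth powers in a list. -/
def cntL (L : List (List ℤ × List ℤ)) (q : ℤ) : ℕ :=
  ((L.map (fun yz => toVec yz.1)).filter (fun y => pw 4 y = q)).length

theorem ncard_Cr_filter (w : ↥leechLattice) (hn : sqNorm (w : GolayPt → ℤ) = 64)
    (L : List (List ℤ × List ℤ))
    (hL : ∀ yz ∈ L, InCross (w : GolayPt → ℤ) (toVec yz.1) (toVec yz.2))
    (hnd : (L.map (fun yz => toVec yz.1)).Nodup)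
    (hlen : (L.map (fun yz => toVec yz.1)).length = 48) (q : ℤ) :
    {v : ↥leechLattice | v ∈ Cr w ∧ pw 4 (v : GolayPt → ℤ) = q}.ncard = cntL L q := by
  have hL' : ∀ y ∈ L.map (fun yz => toVec yz.1), y ∈ cross (w : GolayPt → ℤ) := by
    intro y hy
    obtain ⟨yz, hyz, rfl⟩ := List.mem_map.mp hy
    exact inCross_sound hn (hL yz hyz)
  rw [← Set.ncard_image_of_injective _ Subtype.val_injective]
  unfold cntL
  rw [← ncard_cross_filter (w : GolayPt → ℤ) w.2 hn _ hL' hnd hlen q]
  congr 1
  ext y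
  constructor
  · rintro ⟨v, ⟨hv, hq⟩, rfl⟩
    exact ⟨hv, hq⟩
  · rintro ⟨hy, hq⟩
    exact ⟨⟨y, hy.1⟩, ⟨hy, hq⟩, rfl⟩

/-- the five representatives as lattice vectors. -/
def r1024 : ↥leechLattice := ⟨toVec wL1024, leechP_sound wL1024_props.1⟩

/-- the five representatives as lattice vectors. -/
def r1408 : ↥leechLattice := ⟨toVec wL1408, leechP_sound wL1408_props.1⟩

/-- the five representatives as lattice vectors. -/
def r640 : ↥leechLattice := ⟨toVec wL640, leechP_sound wL640_props.1⟩

/-- the five representatives as lattice vectors. -/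
def r448 : ↥leechLattice := ⟨toVec wL448, leechP_sound wL448_props.1⟩

/-- the five representatives as lattice vectors. -/
def r808 : ↥leechLattice := ⟨toVec wL808, leechP_sound wL808_props.1⟩

theorem cnt_r1024 (q : ℤ) :
    {v : ↥leechLattice | v ∈ Cr r1024 ∧ pw 4 (v : GolayPt → ℤ) = q}.ncard = cntL crossL1024 q :=
  ncard_Cr_filter r1024 wL1024_props.2.1 crossL1024 crossL1024_ok crossL1024_nodup
    crossL1024_length q

theorem cnt_r1408 (q : ℤ) :
    {v : ↥leechLattice | v ∈ Cr r1408 ∧ pw 4 (v : GolayPt → ℤ) = q}.ncard = cntL crossL1408 q :=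
  ncard_Cr_filter r1408 wL1408_props.2.1 crossL1408 crossL1408_ok crossL1408_nodup
    crossL1408_length q

theorem cnt_r640 (q : ℤ) :
    {v : ↥leechLattice | v ∈ Cr r640 ∧ pw 4 (v : GolayPt → ℤ) = q}.ncard = cntL crossL640 q :=
  ncard_Cr_filter r640 wL640_props.2.1 crossL640 crossL640_ok crossL640_nodup
    crossL640_length q

theorem cnt_r448 (q : ℤ) :
    {v : ↥leechLattice | v ∈ Cr r448 ∧ pw 4 (v : GolayPt → ℤ) = q}.ncard = cntL crossL448 q :=
  ncard_Cr_filter r448 wL448_props.2.1 crossL448 crossL448_ok crossL448_nodup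
    crossL448_length q

theorem cnt_r808 (q : ℤ) :
    {v : ↥leechLattice | v ∈ Cr r808 ∧ pw 4 (v : GolayPt → ℤ) = q}.ncard = cntL crossL808 q :=
  ncard_Cr_filter r808 wL808_props.2.1 crossL808 crossL808_ok crossL808_nodup
    crossL808_length q

theorem cntL_vals :
    (cntL crossL1024 4096 = 0 ∧ cntL crossL1024 1024 = 48) ∧
    (cntL crossL1408 4096 = 0 ∧ cntL crossL1408 1024 = 0 ∧ cntL crossL1408 1408 = 16) ∧
    (cntL crossL640 4096 = 0 ∧ cntL crossL640 1024 = 0 ∧ cntL crossL640 1408 = 0 ∧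
      cntL crossL640 640 = 32) ∧
    (cntL crossL448 4096 = 0 ∧ cntL crossL448 1024 = 0 ∧ cntL crossL448 1408 = 0 ∧
      cntL crossL448 640 = 0 ∧ cntL crossL448 448 = 48) ∧
    (cntL crossL808 4096 = 0 ∧ cntL crossL808 1024 = 0 ∧ cntL crossL808 1408 = 0 ∧
      cntL crossL808 640 = 0 ∧ cntL crossL808 448 = 0 ∧ cntL crossL808 808 = 6) := by
  decide +kernel

end Cfsg.Agent.Helper9.CrossMax
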