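import Mathlib
import Cfsg.Prelude.Def_Sporadic_a
import Cfsg.Prelude.Def_SporadicCombinatorics
import Cfsg.Agent.Helper9.Coatom
import Cfsg.Agent.Helper9.CrossMax.Count
import Cfsg.Agent.Helper9.CrossMax.Reps

/-!
The stabiliser of the standard cross is a maximal subgroup of the automorphism group of the
lattice.
-/

set_option autoImplicit false

namespace Cfsg.Agent.Helper9.CrossMax

open Cfsg
open Cfsg.Agent.Helper9.Golay
open Cfsg.Agent.Helper9.Leech
open scoped Pointwise

theorem finite_co0 : Finite ↥Co0 :=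
  Nat.finite_of_card_ne_zero (by rw [card_co0]; norm_num)

/-! ### the five representatives -/

theorem reach_r1024 : ∀ x ∈ leechLattice, sqNorm x = 64 → pw 4 x = 1024 →
    MReach x (r1024 : GolayPt → ℤ) := by
  intro x hx hn hq
  have h := mreach_1024 hx hn hq
  rw [← toVec_wL1024] at h
  exact h

theorem reach_r1408 : ∀ x ∈ leechLattice, sqNorm x = 64 → pw 4 x = 1408 →
    MReach x (r1408 : GolayPt → ℤ) := by
  intro x hx hn hq
  have h := mreach_1408 hx hn hq
  rw [← toVec_wL1408] at h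
  exact h

theorem reach_r640 : ∀ x ∈ leechLattice, sqNorm x = 64 → pw 4 x = 640 →
    MReach x (r640 : GolayPt → ℤ) := by
  intro x hx hn hq
  have h := mreach_640 hx hn hq
  rw [← toVec_wL640] at h
  exact h

theorem reach_r448 : ∀ x ∈ leechLattice, sqNorm x = 64 → pw 4 x = 448 →
    MReach x (r448 : GolayPt → ℤ) := by
  intro x hx hn hq
  have h := mreach_448 hx hn hq
  rw [← toVec_wL448] at h
  exact h

theorem reach_r808 : ∀ x ∈ leechLattice, sqNorm x = 64 → pw 4 x = 808 →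
    MReach x (r808 : GolayPt → ℤ) := by
  intro x hx hn hq
  have h := mreach_808 hx hn hq
  rw [← toVec_wL808] at h
  exact h

theorem ncard_Cq1024 : (Cq 1024).ncard = 3542 := by
  have h := ncard_Cq r1024 reach_r1024 48 (by rw [cnt_r1024]; exact cntL_vals.1.2)
  rw [ncard_Wq (N := 170016) (by unfold famList; simp)] at h
  omega

theorem ncard_Cq1408 : (Cq 1408).ncard = 48576 := by
  have h := ncard_Cq r1408 reach_r1408 16 (by rw [cnt_r1408]; exact cntL_vals.2.1.2.2)
  rw [ncard_Wq (N := 777216) (by unfold famList; simp)] at h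
  omega

theorem ncard_Cq640 : (Cq 640).ncard = 1457280 := by
  have h := ncard_Cq r640 reach_r640 32 (by rw [cnt_r640]; exact cntL_vals.2.2.1.2.2.2)
  rw [ncard_Wq (N := 46632960) (by unfold famList; simp)] at h
  omega

theorem ncard_Cq448 : (Cq 448).ncard = 2637824 := by
  have h := ncard_Cq r448 reach_r448 48 (by rw [cnt_r448]; exact cntL_vals.2.2.2.1.2.2.2.2)
  rw [ncard_Wq (N := 126615552) (by unfold famList; simp)] at h
  omega

theorem ncard_Cq808 : (Cq 808).ncard = 4145152 := by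
  have h := ncard_Cq r808 reach_r808 6 (by rw [cnt_r808]; exact cntL_vals.2.2.2.2.2.2.2.2.2)
  rw [ncard_Wq (N := 24870912) (by unfold famList; simp)] at h
  omega

/-- a set contains a vector with a given sum of fourth powers. -/
def Has (C : Set ↥leechLattice) (q : ℤ) : Prop := ∃ v ∈ C, pw 4 (v : GolayPt → ℤ) = q

theorem not_has_1024 {C : Set ↥leechLattice} (hC : C ∈ Cq 1024) : ¬ Has C 4096 :=
  Cq_not_has r1024 wL1024_props.2.1 reach_r1024 4096
    (by rw [cnt_r1024]; exact cntL_vals.1.1) hC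

theorem not_has_1408 {C : Set ↥leechLattice} (hC : C ∈ Cq 1408) :
    ¬ Has C 4096 ∧ ¬ Has C 1024 :=
  ⟨Cq_not_has r1408 wL1408_props.2.1 reach_r1408 4096
      (by rw [cnt_r1408]; exact cntL_vals.2.1.1) hC,
    Cq_not_has r1408 wL1408_props.2.1 reach_r1408 1024
      (by rw [cnt_r1408]; exact cntL_vals.2.1.2.1) hC⟩

theorem not_has_640 {C : Set ↥leechLattice} (hC : C ∈ Cq 640) :
    ¬ Has C 4096 ∧ ¬ Has C 1024 ∧ ¬ Has C 1408 :=
  ⟨Cq_not_has r640 wL640_props.2.1 reach_r640 4096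
      (by rw [cnt_r640]; exact cntL_vals.2.2.1.1) hC,
    Cq_not_has r640 wL640_props.2.1 reach_r640 1024
      (by rw [cnt_r640]; exact cntL_vals.2.2.1.2.1) hC,
    Cq_not_has r640 wL640_props.2.1 reach_r640 1408
      (by rw [cnt_r640]; exact cntL_vals.2.2.1.2.2.1) hC⟩

theorem not_has_448 {C : Set ↥leechLattice} (hC : C ∈ Cq 448) :
    ¬ Has C 4096 ∧ ¬ Has C 1024 ∧ ¬ Has C 1408 ∧ ¬ Has C 640 :=
  ⟨Cq_not_has r448 wL448_props.2.1 reach_r448 4096
      (by rw [cnt_r448]; exact cntL_vals.2.2.2.1.1) hC,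
    Cq_not_has r448 wL448_props.2.1 reach_r448 1024
      (by rw [cnt_r448]; exact cntL_vals.2.2.2.1.2.1) hC,
    Cq_not_has r448 wL448_props.2.1 reach_r448 1408
      (by rw [cnt_r448]; exact cntL_vals.2.2.2.1.2.2.1) hC,
    Cq_not_has r448 wL448_props.2.1 reach_r448 640
      (by rw [cnt_r448]; exact cntL_vals.2.2.2.1.2.2.2.1) hC⟩

theorem not_has_808 {C : Set ↥leechLattice} (hC : C ∈ Cq 808) :
    ¬ Has C 4096 ∧ ¬ Has C 1024 ∧ ¬ Has C 1408 ∧ ¬ Has C 640 ∧ ¬ Has C 448 :=
  ⟨Cq_not_has r808 wL808_props.2.1 reach_r808 4096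
      (by rw [cnt_r808]; exact cntL_vals.2.2.2.2.1) hC,
    Cq_not_has r808 wL808_props.2.1 reach_r808 1024
      (by rw [cnt_r808]; exact cntL_vals.2.2.2.2.2.1) hC,
    Cq_not_has r808 wL808_props.2.1 reach_r808 1408
      (by rw [cnt_r808]; exact cntL_vals.2.2.2.2.2.2.1) hC,
    Cq_not_has r808 wL808_props.2.1 reach_r808 640
      (by rw [cnt_r808]; exact cntL_vals.2.2.2.2.2.2.2.1) hC,
    Cq_not_has r808 wL808_props.2.1 reach_r808 448
      (by rw [cnt_r808]; exact cntL_vals.2.2.2.2.2.2.2.2.1) hC⟩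

/-! ### the standard cross -/

theorem pat_single_pos (i : GolayPt) : pat 8 {i} ∅ = Pi.single i 8 := by
  funext j
  unfold pat
  by_cases h : j = i <;> simp [h, Pi.single_apply]

theorem pat_single_neg (i : GolayPt) : pat 8 {i} {i} = Pi.single i (-8) := by
  funext j
  unfold pat
  by_cases h : j = i <;> simp [h, Pi.single_apply]

theorem has_4096_iff {C : Set ↥leechLattice} (hC : C ∈ MulAction.orbit ↥Co0 crossSet) :
    Has C 4096 ↔ C = crossSet := by
  constructor
  · rintro ⟨v, hvC, hvq⟩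
    rw [orbit_crossSet] at hC
    obtain ⟨w0, hw0, rfl⟩ := hC
    have hvn : sqNorm (v : GolayPt → ℤ) = 64 := (sqNorm_of_mem_Cr hvC).trans hw0
    obtain ⟨Q, t, hQ, ht, hv⟩ := shq_4096
      (shape_of (N := 48) (by unfold famList; simp) v.2 hvn hvq)
    obtain ⟨i, rfl⟩ := Finset.card_eq_one.mp hQ
    have hstd : (v : GolayPt → ℤ) ∈ stdCross := by
      rcases Finset.subset_singleton_iff.mp ht with rfl | rfl
      · exact ⟨i, 8, Or.inl rfl, by rw [hv, pat_single_pos]⟩
      · exact ⟨i, -8, Or.inr rfl, by rw [hv, pat_single_neg]⟩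
    have hv0 : v ∈ Cr (e8 none) := by
      rw [← crossSet_eq]
      exact hstd
    rw [crossSet_eq, ← Cr_eq_of_mem hvC, Cr_eq_of_mem hv0]
  · rintro rfl
    exact ⟨e8 none, e8_mem_crossSet none, by decide +kernel⟩

/-! ### the colours -/

open Classical in
/-- the colour of a cross. -/
noncomputable def colour (C : Set ↥leechLattice) : ℕ :=
  if Has C 4096 then 0 else if Has C 1024 then 1 else if Has C 1408 then 2 else
  if Has C 640 then 3 else if Has C 448 then 4 else 5

theorem colour_le (C : Set ↥leechLattice) : colour C ≤ 5 := by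
  unfold colour
  split_ifs <;> omega

theorem colour_eq_zero (C : Set ↥leechLattice) : colour C = 0 ↔ Has C 4096 := by
  unfold colour
  split_ifs <;> simp_all

theorem colour_eq_one (C : Set ↥leechLattice) : colour C = 1 ↔ ¬ Has C 4096 ∧ Has C 1024 := by
  unfold colour
  split_ifs <;> simp_all

theorem colour_eq_two (C : Set ↥leechLattice) :
    colour C = 2 ↔ ¬ Has C 4096 ∧ ¬ Has C 1024 ∧ Has C 1408 := by
  unfold colour
  split_ifs <;> simp_all

theorem colour_eq_three (C : Set ↥leechLattice) :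
    colour C = 3 ↔ ¬ Has C 4096 ∧ ¬ Has C 1024 ∧ ¬ Has C 1408 ∧ Has C 640 := by
  unfold colour
  split_ifs <;> simp_all

theorem colour_eq_four (C : Set ↥leechLattice) :
    colour C = 4 ↔ ¬ Has C 4096 ∧ ¬ Has C 1024 ∧ ¬ Has C 1408 ∧ ¬ Has C 640 ∧ Has C 448 := by
  unfold colour
  split_ifs <;> simp_all

theorem colour_eq_five (C : Set ↥leechLattice) :
    colour C = 5 ↔ ¬ Has C 4096 ∧ ¬ Has C 1024 ∧ ¬ Has C 1408 ∧ ¬ Has C 640 ∧ ¬ Has C 448 := by
  unfold colour
  split_ifs <;> simp_all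

/-- the crosses of a given colour. -/
def Kc (k : ℕ) : Set (Set ↥leechLattice) :=
  {y | y ∈ MulAction.orbit ↥Co0 crossSet ∧ colour y = k}

theorem Kc_zero : Kc 0 = {crossSet} := by
  ext C
  constructor
  · rintro ⟨hCo, hc⟩
    exact (has_4096_iff hCo).mp ((colour_eq_zero C).mp hc)
  · intro hC
    rw [Set.mem_singleton_iff] at hC
    subst hC
    have ho : crossSet ∈ MulAction.orbit ↥Co0 crossSet := MulAction.mem_orbit_self _
    exact ⟨ho, (colour_eq_zero _).mpr ((has_4096_iff ho).mpr rfl)⟩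

theorem Kc_one : Kc 1 = Cq 1024 := by
  ext C
  constructor
  · rintro ⟨hCo, hc⟩
    exact ⟨hCo, ((colour_eq_one C).mp hc).2⟩
  · intro hC
    exact ⟨hC.1, (colour_eq_one C).mpr ⟨not_has_1024 hC, hC.2⟩⟩

theorem Kc_two : Kc 2 = Cq 1408 := by
  ext C
  constructor
  · rintro ⟨hCo, hc⟩
    exact ⟨hCo, ((colour_eq_two C).mp hc).2.2⟩
  · intro hC
    obtain ⟨h1, h2⟩ := not_has_1408 hC
    exact ⟨hC.1, (colour_eq_two C).mpr ⟨h1, h2, hC.2⟩⟩

theorem Kc_three : Kc 3 = Cq 640 := by
  ext C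
  constructor
  · rintro ⟨hCo, hc⟩
    exact ⟨hCo, ((colour_eq_three C).mp hc).2.2.2⟩
  · intro hC
    obtain ⟨h1, h2, h3⟩ := not_has_640 hC
    exact ⟨hC.1, (colour_eq_three C).mpr ⟨h1, h2, h3, hC.2⟩⟩

theorem Kc_four : Kc 4 = Cq 448 := by
  ext C
  constructor
  · rintro ⟨hCo, hc⟩
    exact ⟨hCo, ((colour_eq_four C).mp hc).2.2.2.2⟩
  · intro hC
    obtain ⟨h1, h2, h3, h4⟩ := not_has_448 hC
    exact ⟨hC.1, (colour_eq_four C).mpr ⟨h1, h2, h3, h4, hC.2⟩⟩

theorem Cq808_sub : Cq 808 ⊆ Kc 5 := by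
  intro C hC
  obtain ⟨h1, h2, h3, h4, h5⟩ := not_has_808 hC
  exact ⟨hC.1, (colour_eq_five C).mpr ⟨h1, h2, h3, h4, h5⟩⟩

theorem orbit_finite : (MulAction.orbit ↥Co0 crossSet).Finite := by
  haveI := finite_co0
  exact Set.finite_range _

theorem ncard_total : (MulAction.orbit ↥Co0 crossSet).ncard =
    (Kc 0).ncard + (Kc 1).ncard + (Kc 2).ncard + (Kc 3).ncard + (Kc 4).ncard + (Kc 5).ncard := by
  have h := ncard_fibers (MulAction.orbit ↥Co0 crossSet) orbit_finite colour
    (fun v => (Kc v).ncard) (Finset.range 6) (fun v _ => rfl)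
  have e : {y | y ∈ MulAction.orbit ↥Co0 crossSet ∧ colour y ∈ Finset.range 6} =
      MulAction.orbit ↥Co0 crossSet := by
    ext y
    constructor
    · rintro ⟨hy, -⟩
      exact hy
    · intro hy
      refine ⟨hy, ?_⟩
      rw [Finset.mem_range]
      have := colour_le y
      omega
  rw [e] at h
  rw [h]
  simp only [Finset.sum_range_succ, Finset.sum_range_zero, zero_add]

theorem ncard_Kc_five : (Kc 5).ncard = 4145152 := by
  have h := ncard_total
  rw [ncard_orbit_crossSet, Kc_zero, Set.ncard_singleton, Kc_one, Kc_two, Kc_three, Kc_four,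
    ncard_Cq1024, ncard_Cq1408, ncard_Cq640, ncard_Cq448] at h
  omega

theorem Kc_five : Kc 5 = Cq 808 := by
  have hfin : (Kc 5).Finite := orbit_finite.subset (fun y hy => hy.1)
  have hle : (Kc 5).ncard ≤ (Cq 808).ncard := by rw [ncard_Kc_five, ncard_Cq808]
  exact (Set.eq_of_subset_of_ncard_le Cq808_sub hle hfin).symm

/-- the sizes of the classes. -/
def szC (v : ℕ) : ℕ := [0, 3542, 48576, 1457280, 2637824, 4145152].getD v 0

theorem trans_of_Cq {q : ℤ} (w : ↥leechLattice)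
    (hreach : ∀ x ∈ leechLattice, sqNorm x = 64 → pw 4 x = q → MReach x (w : GolayPt → ℤ))
    {y z : Set ↥leechLattice} (hy : y ∈ Cq q) (hz : z ∈ Cq q) :
    ∃ h ∈ MulAction.stabilizer ↥Co0 crossSet, h • y = z := by
  obtain ⟨n1, hn1, rfl⟩ := Cq_eq_smul w hreach hy
  obtain ⟨n2, hn2, rfl⟩ := Cq_eq_smul w hreach hz
  refine ⟨n2 * n1⁻¹, NN.mul_mem hn2 (NN.inv_mem hn1), ?_⟩
  rw [mul_smul, inv_smul_smul]

/-- the stabiliser of the standard cross is a maximal subgroup. -/
theorem isCoatom_NN : IsCoatom NN := by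
  haveI := finite_co0
  refine isCoatom_stabilizer_of_suborbits (G := ↥Co0) crossSet colour {1, 2, 3, 4, 5} szC 8292375
    ncard_orbit_crossSet (by norm_num) ?_ ?_ ?_ ?_ ?_
  · intro y hy z hz hyz
    have hle := colour_le y
    have hy' : y ∈ Kc (colour y) := ⟨hy, rfl⟩
    have hz' : z ∈ Kc (colour y) := ⟨hz, hyz.symm⟩
    generalize colour y = k at hle hy' hz'
    interval_cases k
    · rw [Kc_zero, Set.mem_singleton_iff] at hy' hz'
      refine ⟨1, Subgroup.one_mem _, ?_⟩
      rw [one_smul, hy', hz']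
    · rw [Kc_one] at hy' hz'
      exact trans_of_Cq r1024 reach_r1024 hy' hz'
    · rw [Kc_two] at hy' hz'
      exact trans_of_Cq r1408 reach_r1408 hy' hz'
    · rw [Kc_three] at hy' hz'
      exact trans_of_Cq r640 reach_r640 hy' hz'
    · rw [Kc_four] at hy' hz'
      exact trans_of_Cq r448 reach_r448 hy' hz'
    · rw [Kc_five] at hy' hz'
      exact trans_of_Cq r808 reach_r808 hy' hz'
  · intro y hy hne
    have hle := colour_le y
    have h0 : colour y ≠ 0 := by
      intro h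
      exact hne ((has_4096_iff hy).mp ((colour_eq_zero y).mp h))
    generalize colour y = k at hle h0
    interval_cases k <;> simp at h0 ⊢
  · have h0 : colour crossSet = 0 :=
      (colour_eq_zero _).mpr ((has_4096_iff (MulAction.mem_orbit_self _)).mpr rfl)
    rw [h0]
    decide
  · intro v hv
    simp only [Finset.mem_insert, Finset.mem_singleton] at hv
    change (Kc v).ncard = szC v
    rcases hv with rfl | rfl | rfl | rfl | rfl
    · rw [Kc_one, ncard_Cq1024]; rfl
    · rw [Kc_two, ncard_Cq1408]; rfl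
    · rw [Kc_three, ncard_Cq640]; rfl
    · rw [Kc_four, ncard_Cq448]; rfl
    · rw [ncard_Kc_five]; rfl
  · decide +kernel

end Cfsg.Agent.Helper9.CrossMax
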